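import Cfsg.Agent.LieClassical.OrthTrans
import Cfsg.Agent.LieClassical.OrthForms
import Cfsg.Agent.OddHalf.LongSL.Orth
import Cfsg.Agent.OddHalf.NI3.Props

-- merged: Cfsg.Agent.OddHalf.NI3.K.OrthEmb
section

/-!
# Isometric embeddings with an adjoint projection (NI over F_3, row R3 of the K-side)

`Emb Q₁ Q`: a linear isometry `i : U → V` with a projection `c : V → U` adjoint to `i`; `Emb.hom` is the homomorphism
`g ↦ g ⊥ 1` of `GL(U)` to `GL(V)`, it maps `O Q₁` to `O Q` and `E Q₁` to `E Q`, and its image is normalised by the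
centralizer in `O Q` of `(-1) ⊥ 1`.
-/

set_option autoImplicit false

namespace Cfsg.Agent.OddHalf.NI3.K.OrthEmb

open QuadraticMap
open Cfsg.Agent.LieClassical.OrthCore

variable {F U V : Type*} [Field F] [AddCommGroup U] [Module F U] [AddCommGroup V] [Module F V]

/-- An isometric embedding with the adjoint projection. -/
structure Emb (Q₁ : QuadraticForm F U) (Q : QuadraticForm F V) where
  i : U →ₗ[F] V
  c : V →ₗ[F] U
  ci : ∀ a, c (i a) = a
  qi : ∀ a, Q (i a) = Q₁ a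
  pol : ∀ a v, polar Q (i a) v = polar Q₁ a (c v)

namespace Emb

variable {Q₁ : QuadraticForm F U} {Q : QuadraticForm F V} (e : Emb Q₁ Q)

/-- `v ↦ v + i (g (c v) - c v)` -/
def lin (g : U →ₗ[F] U) : V →ₗ[F] V := LinearMap.id + e.i ∘ₗ (g - LinearMap.id) ∘ₗ e.c

theorem lin_apply (g : U →ₗ[F] U) (v : V) : e.lin g v = v + e.i (g (e.c v) - e.c v) := rfl

theorem c_lin (g : U →ₗ[F] U) (v : V) : e.c (e.lin g v) = g (e.c v) := by
  rw [lin_apply, map_add, e.ci, add_sub_cancel]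

theorem lin_lin (g h : U →ₗ[F] U) (v : V) : e.lin g (e.lin h v) = e.lin (g ∘ₗ h) v := by
  rw [e.lin_apply g, c_lin, e.lin_apply h, e.lin_apply (g ∘ₗ h), add_assoc, ← map_add]
  congr 2
  rw [LinearMap.comp_apply]
  abel

/-- `g ↦ g ⊥ 1` -/
def hom : (U ≃ₗ[F] U) →* (V ≃ₗ[F] V) where
  toFun g := LinearEquiv.ofLinearMap (e.lin g) (e.lin g.symm)
    (by
      ext v
      rw [LinearMap.comp_apply, lin_lin]
      rw [lin_apply, LinearMap.comp_apply]
      simp)
    (by
      ext v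
      rw [LinearMap.comp_apply, lin_lin]
      rw [lin_apply, LinearMap.comp_apply]
      simp)
  map_one' := by
    ext v
    show e.lin _ v = v
    rw [lin_apply]
    simp
  map_mul' g h := by
    ext v
    show e.lin _ v = e.lin _ (e.lin _ v)
    rw [lin_lin]
    rfl

theorem hom_apply (g : U ≃ₗ[F] U) (v : V) : e.hom g v = v + e.i (g (e.c v) - e.c v) := rfl

theorem hom_i (g : U ≃ₗ[F] U) (a : U) : e.hom g (e.i a) = e.i (g a) := by
  rw [hom_apply, e.ci, map_sub]
  abel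

theorem c_hom (g : U ≃ₗ[F] U) (v : V) : e.c (e.hom g v) = g (e.c v) := e.c_lin g v

theorem hom_injective : Function.Injective e.hom := by
  intro g h hgh
  ext a
  have h1 : e.hom g (e.i a) = e.hom h (e.i a) := by rw [hgh]
  rw [hom_i, hom_i] at h1
  have h2 := congrArg e.c h1
  rwa [e.ci, e.ci] at h2

theorem hom_mem_O {g : U ≃ₗ[F] U} (hg : g ∈ O Q₁) : e.hom g ∈ O Q := by
  intro v
  rw [hom_apply, Q_add, e.qi, polar_comm, e.pol]
  have h1 : Q₁ (g (e.c v)) = Q₁ (e.c v) := mem_O.1 hg _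
  have h2 := Q_add (Q := Q₁) (g (e.c v) - e.c v) (e.c v)
  rw [sub_add_cancel, h1] at h2
  linear_combination -h2

theorem hom_siegel {u w : U} (hu : Q₁ u = 0) (hw : polar Q₁ u w = 0) (hu' : Q (e.i u) = 0)
    (hw' : polar Q (e.i u) (e.i w) = 0) :
    e.hom (siegel Q₁ u w hu hw) = siegel Q (e.i u) (e.i w) hu' hw' := by
  ext v
  rw [hom_apply, siegel_apply, siegel_apply, e.pol, e.pol, e.qi]
  have h1 : e.c v + polar Q₁ u (e.c v) • w - polar Q₁ w (e.c v) • u - (Q₁ w * polar Q₁ u (e.c v)) • u - e.c v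
      = polar Q₁ u (e.c v) • w - polar Q₁ w (e.c v) • u - (Q₁ w * polar Q₁ u (e.c v)) • u := by
    abel
  rw [h1, map_sub, map_sub, map_smul, map_smul, map_smul]
  abel

theorem hom_mem_E {g : U ≃ₗ[F] U} (hg : g ∈ E Q₁) : e.hom g ∈ E Q := by
  have h : E Q₁ ≤ (E Q).comap e.hom := by
    rw [E, Subgroup.closure_le]
    rintro _ ⟨u, w, hu, hw, rfl⟩
    have hu' : Q (e.i u) = 0 := by rw [e.qi, hu]
    have hw' : polar Q (e.i u) (e.i w) = 0 := by rw [e.pol, e.ci, hw]
    show e.hom _ ∈ E Q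
    rw [hom_siegel e hu hw hu' hw']
    exact siegel_mem_E hu' hw'
  exact h hg

/-- `-1` on `U` -/
def ng (F U : Type*) [Field F] [AddCommGroup U] [Module F U] : U ≃ₗ[F] U := LinearEquiv.neg F

@[simp]
theorem ng_apply (a : U) : ng F U a = -a := rfl

theorem ng_mul (g : U ≃ₗ[F] U) : ng F U * g = g * ng F U := by
  ext a
  show -(g a) = g (-a)
  rw [map_neg]

/-- An element of `O Q` commuting with `(-1) ⊥ 1` induces an isometry `g₁` of `U` and acts on the image of `hom` by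
conjugation with `g₁`. -/
theorem exists_conj (h2 : (2 : F) ≠ 0) {g : V ≃ₗ[F] V} (hg : g ∈ O Q) (hc : g * e.hom (ng F U) = e.hom (ng F U) * g) :
    ∃ g₁ ∈ O Q₁, ∀ h : U ≃ₗ[F] U, g * e.hom h * g⁻¹ = e.hom (g₁ * h * g₁⁻¹) := by
  -- `g` commutes with `i c`
  have key : ∀ x : V ≃ₗ[F] V, x * e.hom (ng F U) = e.hom (ng F U) * x → ∀ v, x (e.i (e.c v)) = e.i (e.c (x v)) := by
    intro x hx v
    have h3 : x (e.hom (ng F U) v) = e.hom (ng F U) (x v) := congrArg (fun f : V ≃ₗ[F] V => f v) hx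
    rw [hom_apply, hom_apply, ng_apply, ng_apply, map_add] at h3
    have h4 := add_left_cancel h3
    have h5 : -e.c v - e.c v = (-2 : F) • e.c v := by module
    have h6 : -e.c (x v) - e.c (x v) = (-2 : F) • e.c (x v) := by module
    rw [h5, h6, map_smul, map_smul, map_smul] at h4
    exact smul_right_injective V (neg_ne_zero.2 h2) h4
  have hc' : g⁻¹ * e.hom (ng F U) = e.hom (ng F U) * g⁻¹ := by
    rw [inv_mul_eq_iff_eq_mul, ← mul_assoc, eq_mul_inv_iff_mul_eq, hc]
  have k1 := key g hc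
  have k2 := key g⁻¹ hc'
  have hgg : ∀ v, g (g⁻¹ v) = v := fun v => LinearEquiv.apply_symm_apply g v
  have hgg' : ∀ v, g⁻¹ (g v) = v := fun v => LinearEquiv.symm_apply_apply g v
  have k3 : ∀ a, g (e.i a) = e.i (e.c (g (e.i a))) := fun a => by
    have := k1 (e.i a)
    rwa [e.ci] at this
  have k4 : ∀ a, g⁻¹ (e.i a) = e.i (e.c (g⁻¹ (e.i a))) := fun a => by
    have := k2 (e.i a)
    rwa [e.ci] at this
  let g₁ : U ≃ₗ[F] U := LinearEquiv.ofLinearMap (e.c ∘ₗ g.toLinearMap ∘ₗ e.i) (e.c ∘ₗ (g⁻¹).toLinearMap ∘ₗ e.i)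
    (by
      ext a
      show e.c (g (e.i (e.c (g⁻¹ (e.i a))))) = a
      rw [← k4, hgg, e.ci])
    (by
      ext a
      show e.c (g⁻¹ (e.i (e.c (g (e.i a))))) = a
      rw [← k3, hgg', e.ci])
  have a1 : ∀ a, e.i (g₁ a) = g (e.i a) := fun a => (k3 a).symm
  have a2 : ∀ a, e.i (g₁⁻¹ a) = g⁻¹ (e.i a) := fun a => (k4 a).symm
  have a3 : ∀ v, e.c (g⁻¹ v) = g₁⁻¹ (e.c v) := by
    intro v
    have h3 := k2 v
    rw [← a2] at h3
    have h4 := congrArg e.c h3
    rw [e.ci, e.ci] at h4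
    exact h4.symm
  refine ⟨g₁, ?_, ?_⟩
  · intro a
    rw [← e.qi, a1, mem_O.1 hg, e.qi]
  · intro h
    ext v
    show g (e.hom h (g⁻¹ v)) = _
    rw [hom_apply, hom_apply, map_add, hgg, a3, ← a1]
    congr 2
    show g₁ (h (g₁⁻¹ (e.c v)) - g₁⁻¹ (e.c v)) = g₁ (h (g₁⁻¹ (e.c v))) - e.c v
    rw [map_sub]
    congr 1
    exact LinearEquiv.apply_symm_apply g₁ _

end Emb

end Cfsg.Agent.OddHalf.NI3.K.OrthEmb

end

-- merged: Cfsg.Agent.OddHalf.NI3.K.OrthFrame
section

/-!
# The 8-dimensional hyperbolic subspace of an orthogonal space (NI over F_3, row R3 of the K-side)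

* `ofW`: the embedding of `plusForm 4 F` given by four hyperbolic pairs of a Witt frame;
* `del`: `SL₂(F) → E (plusForm 4 F)` with `del (-1) = -1`; `even8`: `-1` is the involution of a quaternion subgroup of
  `E (plusForm 4 F)`, `|F| = 3`.
-/

set_option autoImplicit false

namespace Cfsg.Agent.OddHalf.NI3.K.OrthFrame

open QuadraticMap
open Matrix (SpecialLinearGroup)
open Cfsg.Agent.LieClassical.OrthCore Cfsg.Agent.LieClassical.OrthForms
open Cfsg.Agent.TitsThree Cfsg.Agent.TitsThree.Siegel Cfsg.Agent.TitsThree.SiegelGen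
  Cfsg.Agent.TitsThree.WittFrame Cfsg.Agent.TitsThree.WBridge Cfsg.Agent.TitsThree.KSideO
open Cfsg.Agent.Nodes.RGDOrth
open Cfsg.Agent.OddHalf.LongSL.OrthPhi
open Cfsg.Agent.OddHalf.NI3.K.OrthEmb Cfsg.Agent.OddHalf.NI3.K.OrthEmb.Emb
open Cfsg.Agent.OddHalf.NI (Even8)
open scoped commutatorElement

section ofFrame

variable {F V : Type*} [Field F] [AddCommGroup V] [Module F V] {Q : QuadraticForm F V} {m : ℕ}
  (W : WFrame (PO Q) m)

theorem W_ee (i j : Fin m) : polar Q (W.e i) (W.e j) = 0 := W.ee i j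
theorem W_ff (i j : Fin m) : polar Q (W.f i) (W.f j) = 0 := W.ff i j
theorem W_ef (i j : Fin m) : polar Q (W.e i) (W.f j) = if i = j then 1 else 0 := W.ef i j
theorem W_fe (i j : Fin m) : polar Q (W.f i) (W.e j) = if i = j then 1 else 0 := W.fe i j

variable (h4 : 4 ≤ m)

/-- the coordinates -/
def cc : V →ₗ[F] (Fin 4 ⊕ Fin 4 → F) :=
  LinearMap.pi (Sum.elim (fun k => polarBilin Q (W.f (Fin.castLE h4 k))) (fun k => polarBilin Q (W.e (Fin.castLE h4 k))))

theorem cc_inl (v : V) (k : Fin 4) : cc W h4 v (Sum.inl k) = polar Q (W.f (Fin.castLE h4 k)) v := rfl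
theorem cc_inr (v : V) (k : Fin 4) : cc W h4 v (Sum.inr k) = polar Q (W.e (Fin.castLE h4 k)) v := rfl

/-- the inclusion -/
def ii : (Fin 4 ⊕ Fin 4 → F) →ₗ[F] V :=
  ∑ k : Fin 4, ((LinearMap.proj (R := F) (φ := fun _ : Fin 4 ⊕ Fin 4 => F) (Sum.inl k)).smulRight (W.e (Fin.castLE h4 k)) +
    (LinearMap.proj (R := F) (φ := fun _ : Fin 4 ⊕ Fin 4 => F) (Sum.inr k)).smulRight (W.f (Fin.castLE h4 k)))

theorem ii_apply (a : Fin 4 ⊕ Fin 4 → F) :
    ii W h4 a = ∑ k : Fin 4, (a (Sum.inl k) • W.e (Fin.castLE h4 k) + a (Sum.inr k) • W.f (Fin.castLE h4 k)) := by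
  unfold ii
  rw [LinearMap.sum_apply]
  rfl

theorem polar_ii (a : Fin 4 ⊕ Fin 4 → F) (v : V) :
    polar Q (ii W h4 a) v = ∑ k : Fin 4, (a (Sum.inl k) * polar Q (W.e (Fin.castLE h4 k)) v +
      a (Sum.inr k) * polar Q (W.f (Fin.castLE h4 k)) v) := by
  have h : ∀ x, polar Q x v = (polarBilin Q).flip v x := fun x => rfl
  rw [h, ii_apply, map_sum]
  refine Finset.sum_congr rfl fun k _ => ?_
  rw [map_add, map_smul, map_smul, smul_eq_mul, smul_eq_mul, ← h, ← h]

theorem cc_ii (a : Fin 4 ⊕ Fin 4 → F) : cc W h4 (ii W h4 a) = a := by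
  funext s
  rcases s with k | k
  · rw [cc_inl, polar_comm, polar_ii]
    rw [Finset.sum_eq_single k]
    · rw [W_ef, W_ff, if_pos rfl]; ring
    · intro j _ hj
      rw [W_ef, W_ff, if_neg]
      · ring
      · intro h
        exact hj (Fin.castLE_injective h4 h)
    · intro h
      exact absurd (Finset.mem_univ k) h
  · rw [cc_inr, polar_comm, polar_ii]
    rw [Finset.sum_eq_single k]
    · rw [W_ee, W_fe, if_pos rfl]; ring
    · intro j _ hj
      rw [W_ee, W_fe, if_neg]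
      · ring
      · intro h
        exact hj (Fin.castLE_injective h4 h)
    · intro h
      exact absurd (Finset.mem_univ k) h

theorem pol_ii (a : Fin 4 ⊕ Fin 4 → F) (v : V) : polar Q (ii W h4 a) v = polar (plusForm 4 F) a (cc W h4 v) := by
  rw [polar_ii, polar_plusForm]
  refine Finset.sum_congr rfl fun k _ => ?_
  rw [cc_inl, cc_inr]
  ring

/-- **The embedding of the hyperbolic space of dimension 8.** -/
def ofW (h2 : (2 : F) ≠ 0) : Emb (plusForm 4 F) Q where
  i := ii W h4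
  c := cc W h4
  ci := cc_ii W h4
  qi a := by
    have h1 := pol_ii W h4 a (ii W h4 a)
    rw [cc_ii, polar_self', polar_self'] at h1
    exact mul_left_cancel₀ h2 h1
  pol := pol_ii W h4

end ofFrame

section SL

variable {F V : Type*} [Field F] [AddCommGroup V] [Module F V] {Q : QuadraticForm F V} {ι : Type*} [DecidableEq ι]
  (Fr : Frame (HO Q) ι) {x y x' y' : ι × Bool}

theorem polar_phi_of_ne (M : SpecialLinearGroup (Fin 2) F) (v : V) {z : ι × Bool} (h1 : z.1 ≠ x.1) (h2 : z.1 ≠ y.1) :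
    polar Q (phiFun Fr x y M v) (Fr.b z) = polar Q v (Fr.b z) := by
  unfold phiFun
  simp only [polar_add_left, polar_smul_left, smul_eq_mul]
  rw [p_ne Fr (z := x) (w := z) h1.symm, p_ne Fr (z := neg y) (w := z) h2.symm,
    p_ne Fr (z := neg x) (w := z) h1.symm, p_ne Fr (z := y) (w := z) h2.symm]
  ring

/-- the two `SL₂` of two disjoint pairs commute -/
theorem Phi_comm (hxy : x.1 ≠ y.1) (hxy' : x'.1 ≠ y'.1) (h1 : x'.1 ≠ x.1) (h2 : x'.1 ≠ y.1) (h3 : y'.1 ≠ x.1)
    (h4 : y'.1 ≠ y.1) (M N : SpecialLinearGroup (Fin 2) F) : Commute (Phi Fr hxy M) (Phi Fr hxy' N) := by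
  show Phi Fr hxy M * Phi Fr hxy' N = Phi Fr hxy' N * Phi Fr hxy M
  ext v
  show phiFun Fr x y M (phiFun Fr x' y' N v) = phiFun Fr x' y' N (phiFun Fr x y M v)
  have a1 : ∀ v, phiFun Fr x y M v = v
    + ((M.1 0 0 - 1) * polar Q v (Fr.b (neg x)) + M.1 0 1 * polar Q v (Fr.b y)) • Fr.b x
    + (M.1 1 0 * polar Q v (Fr.b (neg x)) + (M.1 1 1 - 1) * polar Q v (Fr.b y)) • Fr.b (neg y)
    + ((M.1 1 1 - 1) * polar Q v (Fr.b x) - M.1 1 0 * polar Q v (Fr.b (neg y))) • Fr.b (neg x)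
    + (-M.1 0 1 * polar Q v (Fr.b x) + (M.1 0 0 - 1) * polar Q v (Fr.b (neg y))) • Fr.b y := fun v => rfl
  have a2 : ∀ v, phiFun Fr x' y' N v = v
    + ((N.1 0 0 - 1) * polar Q v (Fr.b (neg x')) + N.1 0 1 * polar Q v (Fr.b y')) • Fr.b x'
    + (N.1 1 0 * polar Q v (Fr.b (neg x')) + (N.1 1 1 - 1) * polar Q v (Fr.b y')) • Fr.b (neg y')
    + ((N.1 1 1 - 1) * polar Q v (Fr.b x') - N.1 1 0 * polar Q v (Fr.b (neg y'))) • Fr.b (neg x')
    + (-N.1 0 1 * polar Q v (Fr.b x') + (N.1 0 0 - 1) * polar Q v (Fr.b (neg y'))) • Fr.b y' := fun v => rfl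
  rw [a1 (phiFun Fr x' y' N v), polar_phi_of_ne Fr N v (z := neg x) h1.symm h3.symm,
    polar_phi_of_ne Fr N v (z := y) h2.symm h4.symm, polar_phi_of_ne Fr N v (z := x) h1.symm h3.symm,
    polar_phi_of_ne Fr N v (z := neg y) h2.symm h4.symm,
    a2 (phiFun Fr x y M v), polar_phi_of_ne Fr M v (z := neg x') h1 h2,
    polar_phi_of_ne Fr M v (z := y') h3 h4, polar_phi_of_ne Fr M v (z := x') h1 h2,
    polar_phi_of_ne Fr M v (z := neg y') h3 h4, a1 v, a2 v]
  abel

end SL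

section Eight

variable (F : Type) [Field F]

theorem h01 : (((0 : Fin 4), true) : Fin 4 × Bool).1 ≠ (((1 : Fin 4), true) : Fin 4 × Bool).1 := by decide
theorem h23 : (((2 : Fin 4), true) : Fin 4 × Bool).1 ≠ (((3 : Fin 4), true) : Fin 4 × Bool).1 := by decide

/-- `SL₂(F) → O(plusForm 4 F)`, diagonal in two root subgroups -/
def del : SpecialLinearGroup (Fin 2) F →* ((Fin 4 ⊕ Fin 4 → F) ≃ₗ[F] (Fin 4 ⊕ Fin 4 → F)) where
  toFun g := Phi (toFrame (wplus 4 F)) h01 g * Phi (toFrame (wplus 4 F)) h23 g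
  map_one' := by rw [map_one, map_one, mul_one]
  map_mul' a b := by
    rw [map_mul, map_mul]
    exact ((Phi_comm (toFrame (wplus 4 F)) h01 h23 (by decide) (by decide) (by decide) (by decide) b a).mul_mul_mul_comm
      _ _)

theorem del_mem (g : SpecialLinearGroup (Fin 2) F) : del F g ∈ E (plusForm 4 F) :=
  (E _).mul_mem (LongSL.Orth.Phi_mem' (wplus 4 F) h01 g) (LongSL.Orth.Phi_mem' (wplus 4 F) h23 g)

theorem del_b (z : Fin 4 × Bool) : del F (-1) ((toFrame (wplus 4 F)).b z) = -(toFrame (wplus 4 F)).b z := by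
  show Phi (toFrame (wplus 4 F)) h01 (-1) (Phi (toFrame (wplus 4 F)) h23 (-1) ((toFrame (wplus 4 F)).b z)) = _
  by_cases hz : z.1 = 2 ∨ z.1 = 3
  · have hz' : z.1 ≠ 0 ∧ z.1 ≠ 1 := by
      rcases hz with h | h <;> rw [h] <;> decide
    rw [j_of_eq (toFrame (wplus 4 F)) h23 hz, map_smul,
      Phi_of_ne (toFrame (wplus 4 F)) h01 _ hz'.1 hz'.2, neg_one_smul]
  · push Not at hz
    have hz' : z.1 = 0 ∨ z.1 = 1 := by
      obtain ⟨k, b⟩ := z
      fin_cases k
      · exact Or.inl rfl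
      · exact Or.inr rfl
      · exact absurd rfl hz.1
      · exact absurd rfl hz.2
    rw [Phi_of_ne (toFrame (wplus 4 F)) h23 _ hz.1 hz.2, j_of_eq (toFrame (wplus 4 F)) h01 hz', neg_one_smul]

theorem del_neg_one : del F (-1) = ng F (Fin 4 ⊕ Fin 4 → F) := by
  ext1 v
  rw [ng_apply]
  obtain ⟨a, b, w, hw, hv⟩ := (wplus 4 F).span v
  have hw0 : w = 0 := (Submodule.mem_bot F).1 hw
  have he : ∀ i, del F (-1) ((wplus 4 F).e i) = -(wplus 4 F).e i := fun i => del_b F (i, true)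
  have hf : ∀ i, del F (-1) ((wplus 4 F).f i) = -(wplus 4 F).f i := fun i => del_b F (i, false)
  rw [hv, hw0, add_zero, map_add, map_sum, map_sum, neg_add, ← Finset.sum_neg_distrib, ← Finset.sum_neg_distrib]
  congr 1
  · exact Finset.sum_congr rfl fun i _ => by rw [map_smul, he, smul_neg]
  · exact Finset.sum_congr rfl fun i _ => by rw [map_smul, hf, smul_neg]

theorem ng_mem : ng F (Fin 4 ⊕ Fin 4 → F) ∈ E (plusForm 4 F) := by
  rw [← del_neg_one]
  exact del_mem F _

/-- `-1` as an element of `E (plusForm 4 F)` -/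
def nE : E (plusForm 4 F) := ⟨ng F _, ng_mem F⟩

theorem nE_comm (g : E (plusForm 4 F)) : nE F * g = g * nE F := Subtype.ext (ng_mul g.1)

theorem nE_ne (h2 : (2 : F) ≠ 0) : nE F ≠ 1 := by
  intro h
  have h1 : ng F (Fin 4 ⊕ Fin 4 → F) = 1 := congrArg Subtype.val h
  have h3 : ng F (Fin 4 ⊕ Fin 4 → F) (fun _ => 1) = (1 : (Fin 4 ⊕ Fin 4 → F) ≃ₗ[F] (Fin 4 ⊕ Fin 4 → F)) (fun _ => 1) := by
    rw [h1]
  rw [ng_apply] at h3
  have h4 := congrFun h3 (Sum.inl 0)
  change (-1 : F) = 1 at h4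
  apply h2
  linear_combination -h4

theorem nE_sq : nE F ^ 2 = 1 := by
  rw [pow_two]
  apply Subtype.ext
  ext1 v
  show ng F _ (ng F _ v) = v
  rw [ng_apply, ng_apply, _root_.neg_neg]

theorem orderOf_nE (h2 : (2 : F) ≠ 0) : orderOf (nE F) = 2 := orderOf_eq_prime (nE_sq F) (nE_ne F h2)

theorem even8 [Fintype F] (h3 : Fintype.card F = 3) : Even8 (nE F) := by
  have h30 : (3 : F) = 0 := by
    have h := FiniteField.cast_card_eq_zero F
    rw [h3] at h
    exact_mod_cast h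
  have h2 : (2 : F) ≠ 0 := by
    intro h
    apply one_ne_zero (α := F)
    linear_combination h30 - h
  have e1 : (!![0, -1; 1, 0] : Matrix (Fin 2) (Fin 2) F).det = 1 := by
    rw [Matrix.det_fin_two]; simp
  have e2 : (!![1, 1; 1, -1] : Matrix (Fin 2) (Fin 2) F).det = 1 := by
    rw [Matrix.det_fin_two]
    simp only [Matrix.of_apply, Matrix.cons_val', Matrix.cons_val_zero, Matrix.cons_val_one, Matrix.empty_val',
      Matrix.cons_val_fin_one]
    linear_combination -h30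
  obtain ⟨a, ha⟩ : ∃ a : SpecialLinearGroup (Fin 2) F, a = ⟨_, e1⟩ := ⟨_, rfl⟩
  obtain ⟨b, hb⟩ : ∃ b : SpecialLinearGroup (Fin 2) F, b = ⟨_, e2⟩ := ⟨_, rfl⟩
  have a2 : a * a = -1 := by
    rw [ha]
    apply Subtype.ext
    show (!![0, -1; 1, 0] : Matrix (Fin 2) (Fin 2) F) * !![0, -1; 1, 0] = -1
    ext i j
    fin_cases i <;> fin_cases j <;> simp [Matrix.mul_apply, Fin.sum_univ_two]
  have b2 : b * b = -1 := by
    rw [hb]
    apply Subtype.ext
    show (!![1, 1; 1, -1] : Matrix (Fin 2) (Fin 2) F) * !![1, 1; 1, -1] = -1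
    ext i j
    fin_cases i <;> fin_cases j <;> simp [Matrix.mul_apply, Fin.sum_univ_two] <;> linear_combination h30
  have ab : a * b = -1 * (b * a) := by
    rw [ha, hb]
    apply Subtype.ext
    show (!![0, -1; 1, 0] : Matrix (Fin 2) (Fin 2) F) * !![1, 1; 1, -1] =
      (-1 : Matrix (Fin 2) (Fin 2) F) * (!![1, 1; 1, -1] * !![0, -1; 1, 0])
    ext i j
    fin_cases i <;> fin_cases j <;> simp [Matrix.mul_apply, Fin.sum_univ_two]
  have hc : ⁅a, b⁆ = -1 := by
    rw [commutatorElement_def, ab, mul_assoc, mul_assoc, mul_assoc]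
    rw [mul_inv_cancel_left, mul_inv_cancel, mul_one]
  refine ⟨orderOf_nE F h2, ⟨del F a, del_mem F a⟩, ⟨del F b, del_mem F b⟩, ?_, ?_, ?_⟩
  · apply Subtype.ext
    show del F a * del F a = ng F _
    rw [← map_mul, a2, del_neg_one]
  · apply Subtype.ext
    show del F b * del F b = ng F _
    rw [← map_mul, b2, del_neg_one]
  · apply Subtype.ext
    show ⁅del F a, del F b⁆ = ng F _
    rw [← map_commutatorElement, hc, del_neg_one]

end Eight

end Cfsg.Agent.OddHalf.NI3.K.OrthFrame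

end

-- merged: Cfsg.Agent.OddHalf.NI3.K.OrthY
section

/-!
# The orthogonal groups over the field with three elements have `(y, M)` with `Z(M)` a 2-group (NI over F_3, R3/R7)

`K = PΩ(V)`, `V = W ⊥ W'`, `W` hyperbolic of dimension 8, `dim W' > 0`, `|F| = 3`: `y = -1_W`, `M = Ω(W) ≃ Ω₈⁺(3)` is a
component of `C_K(y)`, `y ∈ M` even.
-/

set_option autoImplicit false

namespace Cfsg.Agent.OddHalf.NI3.K.OrthY

open QuadraticMap Cfsg
open Cfsg.Agent.LieClassical Cfsg.Agent.LieClassical.OrthCore Cfsg.Agent.LieClassical.OrthForms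
  Cfsg.Agent.LieClassical.OrthTrans Cfsg.Agent.LieClassical.OrthSimple Cfsg.Agent.LieClassical.OrthFinite
open Cfsg.Agent.TitsThree Cfsg.Agent.TitsThree.Siegel Cfsg.Agent.TitsThree.SiegelGen
  Cfsg.Agent.TitsThree.KSideO Cfsg.Agent.TitsThree.WBridge
open Cfsg.Agent.Nodes.RGDOrth
open Cfsg.Agent.SignalizersComponents
open Cfsg.Agent.OddHalf.NI3.K.OrthEmb Cfsg.Agent.OddHalf.NI3.K.OrthEmb.Emb Cfsg.Agent.OddHalf.NI3.K.OrthFrame
open Cfsg.Agent.OddHalf.NI (Even8 CompIn)
open Cfsg.Agent.OddHalf.LieOddFam (Rk FPlus)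

/-! ### An abstract criterion -/

section Abs

variable {A H K : Type*} [Group A] [Group H] [Group K]

/-- `π : H → K` surjective with central kernel, `j : A → H`, `n ∈ A` central, the image of `j` normalised by
`C_H(j n)`, `A` quasisimple, `π j` injective: the image of `A` is a component of `C_K(π j n)`. -/
theorem compIn_of (hA : IsQuasisimple A) (π : H →* K) (hπ : Function.Surjective π)
    (hker : ∀ h, π h = 1 → h ∈ Subgroup.center H) (j : A →* H) (hinj : Function.Injective (π.comp j)) {n : A}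
    (hn : ∀ a, n * a = a * n)
    (hnorm : ∀ h : H, h * j n = j n * h → ∀ a : A, ∃ b : A, h * j a * h⁻¹ = j b) :
    CompIn (Subgroup.centralizer ({π (j n)} : Set K)) (π.comp j).range := by
  have hmemC : ∀ x : K, x ∈ Subgroup.centralizer ({π (j n)} : Set K) ↔ x * π (j n) = π (j n) * x := by
    intro x
    rw [Subgroup.mem_centralizer_iff]
    constructor
    · intro h; exact (h _ rfl).symm
    · rintro h _ rfl; exact h.symm
  have hle : (π.comp j).range ≤ Subgroup.centralizer ({π (j n)} : Set K) := by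
    rintro _ ⟨a, rfl⟩
    rw [hmemC]
    show π (j a) * π (j n) = π (j n) * π (j a)
    rw [← map_mul, ← map_mul, ← map_mul, ← map_mul, hn]
  refine ⟨hle, ?_, ?_⟩
  · -- subnormal
    set N : Subgroup K := (Subgroup.centralizer ({j n} : Set H)).map π with hN
    have hmemN : ∀ h : H, h ∈ Subgroup.centralizer ({j n} : Set H) ↔ h * j n = j n * h := by
      intro h
      rw [Subgroup.mem_centralizer_iff]
      constructor
      · intro h; exact (h _ rfl).symm
      · rintro h _ rfl; exact h.symm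
    have hNC : N ≤ Subgroup.centralizer ({π (j n)} : Set K) := by
      rintro _ ⟨h, hh, rfl⟩
      rw [hmemC, ← map_mul, (hmemN h).1 hh, map_mul]
    have hMN : (π.comp j).range ≤ N := by
      rintro _ ⟨a, rfl⟩
      refine ⟨j a, ?_, rfl⟩
      rw [SetLike.mem_coe, hmemN, ← map_mul, ← map_mul, hn]
    have s1 : (N.subgroupOf (Subgroup.centralizer ({π (j n)} : Set K))).IsSubnormal := by
      apply Subgroup.Normal.isSubnormal
      refine ⟨fun x hx g => ?_⟩
      rw [Subgroup.mem_subgroupOf] at hx ⊢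
      obtain ⟨h, hh, hhx⟩ := hx
      obtain ⟨g', hg'⟩ := hπ g.1
      have hgC := (hmemC g.1).1 g.2
      refine ⟨g' * h * g'⁻¹, ?_, ?_⟩
      swap
      · rw [map_mul, map_mul, map_inv, hhx, hg']; rfl
      rw [SetLike.mem_coe, hmemN] at hh ⊢
      have hz : (j n)⁻¹ * (g' * j n * g'⁻¹) ∈ Subgroup.center H := by
        apply hker
        rw [map_mul, map_mul, map_mul, map_inv, map_inv, hg', hgC]
        group
      rw [Subgroup.mem_center_iff] at hz
      set z := (j n)⁻¹ * (g' * j n * g'⁻¹) with hzd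
      have h1 : g' * j n * g'⁻¹ = j n * z := by rw [hzd]; group
      have h2 : j n = g' * j n * g'⁻¹ * z⁻¹ := by rw [h1]; group
      have h3 : g' * h * g'⁻¹ * (g' * j n * g'⁻¹) = g' * j n * g'⁻¹ * (g' * h * g'⁻¹) := by
        calc g' * h * g'⁻¹ * (g' * j n * g'⁻¹) = g' * (h * j n) * g'⁻¹ := by group
          _ = g' * (j n * h) * g'⁻¹ := by rw [hh]
          _ = g' * j n * g'⁻¹ * (g' * h * g'⁻¹) := by group
      have h4 : ∀ w : H, w * z⁻¹ = z⁻¹ * w := fun w => by
        have := hz w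
        rw [eq_inv_mul_iff_mul_eq, ← mul_assoc, ← this]
        group
      calc g' * h * g'⁻¹ * j n = g' * h * g'⁻¹ * (g' * j n * g'⁻¹ * z⁻¹) := by rw [← h2]
        _ = g' * h * g'⁻¹ * (g' * j n * g'⁻¹) * z⁻¹ := by group
        _ = g' * j n * g'⁻¹ * (g' * h * g'⁻¹) * z⁻¹ := by rw [h3]
        _ = g' * j n * g'⁻¹ * z⁻¹ * (g' * h * g'⁻¹) := by rw [mul_assoc _ _ z⁻¹, h4, ← mul_assoc]
        _ = j n * (g' * h * g'⁻¹) := by rw [← h2]
    have s2 : ((π.comp j).range.subgroupOf N).IsSubnormal := by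
      apply Subgroup.Normal.isSubnormal
      refine ⟨fun x hx g => ?_⟩
      rw [Subgroup.mem_subgroupOf] at hx ⊢
      obtain ⟨a, ha⟩ := hx
      obtain ⟨h, hh, hg⟩ := g.2
      rw [SetLike.mem_coe, hmemN] at hh
      obtain ⟨b, hb⟩ := hnorm h hh a
      refine ⟨b, ?_⟩
      show π (j b) = g.1 * x.1 * g.1⁻¹
      rw [← hb, map_mul, map_mul, map_inv, hg, ← ha]
      rfl
    refine Subgroup.IsSubnormal.trans (K := N.subgroupOf _) ?_ ?_ s1
    · exact Subgroup.comap_mono hMN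
    · have e1 : (((π.comp j).range.subgroupOf (Subgroup.centralizer ({π (j n)} : Set K))).subgroupOf
          (N.subgroupOf (Subgroup.centralizer ({π (j n)} : Set K)))) =
          ((π.comp j).range.subgroupOf N).comap (Subgroup.subgroupOfEquivOfLe hNC).toMonoidHom := by
        ext x
        rfl
      rw [e1]
      exact s2.comap _
  · have e : A ≃* ↥((π.comp j).range) := MonoidHom.ofInjective hinj
    exact Components.isQuasisimple_of_mulEquiv (e.trans (Subgroup.subgroupOfEquivOfLe hle).symm) hA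

end Abs

/-! ### `E Q` -/

theorem isQuasisimple_E {F V : Type*} [Field F] [AddCommGroup V] [Module F V] {Q : QuadraticForm F V} (hG : Good Q) :
    IsQuasisimple ↥(E Q) :=
  ⟨Subgroup.isPerfect_iff.mpr hG.E_perfect, good_isSimpleGroup hG⟩

/-- over the field with three elements the centre of `E Q` is a 2-group -/
theorem center_two {F V : Type*} [Field F] [Fintype F] [AddCommGroup V] [Module F V] {Q : QuadraticForm F V}
    (hG : Good Q) (h3 : Fintype.card F = 3) : IsPGroup 2 ↥(Subgroup.center ↥(E Q)) := by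
  intro g
  refine ⟨1, ?_⟩
  obtain ⟨c, hc⟩ := scalar_of_center hG g.2
  apply Subtype.ext
  apply Subtype.ext
  ext1 v
  show ((g.1.1) ^ 2 ^ 1 : V ≃ₗ[F] V) v = v
  have h1 : ((g.1.1) ^ 2 ^ 1 : V ≃ₗ[F] V) v = g.1.1 (g.1.1 v) := by
    rw [pow_one, pow_two]; rfl
  rw [h1, hc, hc, smul_smul]
  by_cases hv : v = 0
  · rw [hv, smul_zero]
  have hc0 : c ≠ 0 := by
    intro h0
    have h2 := hc v
    rw [h0, zero_smul] at h2
    exact hv ((map_eq_zero_iff g.1.1 g.1.1.injective).1 h2)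
  have h4 : c ^ 2 = 1 := by
    have := FiniteField.pow_card_sub_one_eq_one c hc0
    rwa [h3] at this
  rw [← pow_two, h4, one_smul]

section Main

variable {ι : Type} [Fintype ι] [DecidableEq ι] {F : Type} [Field F] [Fintype F] {Q : QuadraticForm F (ι → F)}

/-- the map `E Q₁ → E Q` -/
def hE {Q₁ : QuadraticForm F (Fin 4 ⊕ Fin 4 → F)} (e : Emb Q₁ Q) : ↥(E Q₁) →* ↥(E Q) :=
  (e.hom.comp (E Q₁).subtype).codRestrict (E Q) fun g => e.hom_mem_E g.2

omit [Fintype F] in
theorem injective_comp (hG : Good Q) {Q₁ : QuadraticForm F (Fin 4 ⊕ Fin 4 → F)} (e : Emb Q₁ Q)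
    (hd : 8 < Fintype.card ι) : Function.Injective ((toPOmega hG).comp (hE e)) := by
  rw [injective_iff_map_eq_one]
  intro g hg
  obtain ⟨c, hc⟩ := scalar_of_center hG (center_of_toPOmega hG hg)
  have h1 : Module.finrank F (Fin 4 ⊕ Fin 4 → F) < Module.finrank F (ι → F) := by
    rw [Module.finrank_fintype_fun_eq_card, Module.finrank_fintype_fun_eq_card, Fintype.card_sum, Fintype.card_fin]
    omega
  obtain ⟨v, hv, hv0⟩ := (Submodule.ne_bot_iff _).1 (LinearMap.ker_ne_bot_of_finrank_lt (f := e.c) h1)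
  have hcv : e.c v = 0 := hv
  have h2 : e.hom g.1 v = c • v := hc v
  rw [hom_apply, hcv, map_zero, sub_zero, map_zero, add_zero] at h2
  have h3 : c = 1 := by
    have h4 : (1 - c) • v = 0 := by rw [sub_smul, one_smul, ← h2, sub_self]
    have h5 := (smul_eq_zero.1 h4).resolve_right hv0
    exact (sub_eq_zero.1 h5).symm
  apply Subtype.ext
  apply e.hom_injective
  rw [Subgroup.coe_one, map_one]
  ext1 w
  have h6 : e.hom g.1 w = c • w := hc w
  rw [h6, h3, one_smul]
  rfl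

/-- **HasYF for the orthogonal groups containing `Ω₈⁺(3)` properly.** -/
theorem hasY_of_emb {K : Type*} [Group K] (f : K ≃* Cfsg.POmega F ⇑Q) (hG : Good Q) (e : Emb (plusForm 4 F) Q)
    (h3 : Fintype.card F = 3) (hd : 8 < Fintype.card ι) : HasYF K := by
  have h30 : (3 : F) = 0 := by
    have h := FiniteField.cast_card_eq_zero F
    rw [h3] at h
    exact_mod_cast h
  have h2 : (2 : F) ≠ 0 := by
    intro h
    apply one_ne_zero (α := F)
    linear_combination h30 - h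
  have hG₁ : Good (plusForm 4 F) := by
    apply good_of_finite (nondeg_plusForm 4 F)
    rw [Module.finrank_fintype_fun_eq_card, Fintype.card_sum, Fintype.card_fin]
    omega
  obtain ⟨π, hπ⟩ : ∃ π : ↥(E Q) →* K, π = f.symm.toMonoidHom.comp (toPOmega hG) := ⟨_, rfl⟩
  have hπs : Function.Surjective π := by
    rw [hπ]
    exact f.symm.surjective.comp (toPOmega_surjective hG)
  have hπk : ∀ h, π h = 1 → h ∈ Subgroup.center ↥(E Q) := by
    intro h hh
    rw [hπ] at hh
    exact center_of_toPOmega hG (f.symm.injective (hh.trans (map_one f.symm).symm))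
  have hinj : Function.Injective (π.comp (hE e)) := by
    rw [hπ]
    exact f.symm.injective.comp (injective_comp hG e hd)
  set ψ := π.comp (hE e) with hψ
  have hy1 : ψ (nE F) ≠ 1 := fun h => nE_ne F h2 ((injective_iff_map_eq_one ψ).1 hinj _ h)
  let eM : ↥(E (plusForm 4 F)) ≃* ↥ψ.range := MonoidHom.ofInjective hinj
  refine ⟨ψ (nE F), ψ.range, ⟨_, rfl⟩, ?_, ?_, Or.inl ⟨?_, ?_, ?_⟩⟩
  · rw [orderOf_injective ψ hinj, orderOf_nE F h2]
  · refine compIn_of (isQuasisimple_E hG₁) π hπs hπk (hE e) hinj (n := nE F) (nE_comm F) ?_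
    intro h hh a
    obtain ⟨g₁, hg₁, hc⟩ := e.exists_conj h2 (E_le_O h.2) (congrArg Subtype.val hh)
    exact ⟨⟨g₁ * a.1 * g₁⁻¹, conj_mem_E hg₁ a.2⟩, Subtype.ext (hc a.1)⟩
  · -- the type of `M`
    have e1 : ↥ψ.range ≃* Cfsg.Omega F ⇑(plusForm 4 F) := eM.symm.trans (toOmega hG₁)
    have e2 : (↥ψ.range ⧸ Subgroup.center ↥ψ.range) ≃* Cfsg.POmega F ⇑(plusForm 4 F) :=
      QuotientGroup.congr _ _ e1 (by
        ext x
        rw [Subgroup.mem_map, Subgroup.mem_center_iff]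
        constructor
        · rintro ⟨z, hz, rfl⟩ g
          have := (Subgroup.mem_center_iff.1 hz) (e1.symm g)
          have h5 := congrArg e1 this
          rw [map_mul, map_mul, e1.apply_symm_apply] at h5
          exact h5
        · intro h
          refine ⟨e1.symm x, Subgroup.mem_center_iff.2 fun g => ?_, e1.apply_symm_apply x⟩
          apply e1.injective
          rw [map_mul, map_mul, e1.apply_symm_apply]
          exact h _)
    have hp : FPlus (↥ψ.range ⧸ Subgroup.center ↥ψ.range) 3 :=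
      ⟨F, inferInstance, inferInstance, 4, h3, le_rfl, ⟨e2.trans (by rw [coe_plusForm])⟩⟩
    unfold Rk
    tauto
  · have h5 := (even8 F h3).map eM.toMonoidHom (fun h => hy1 (congrArg Subtype.val h))
    exact h5
  · intro x
    have hx : eM.symm x.1 ∈ Subgroup.center ↥(E (plusForm 4 F)) := by
      rw [Subgroup.mem_center_iff]
      intro g
      apply eM.injective
      rw [map_mul, map_mul, eM.apply_symm_apply]
      exact (Subgroup.mem_center_iff.1 x.2) _
    obtain ⟨k, hk⟩ := center_two hG₁ h3 ⟨_, hx⟩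
    refine ⟨k, ?_⟩
    have h6 : (eM.symm x.1) ^ 2 ^ k = 1 := congrArg Subtype.val hk
    rw [← map_pow] at h6
    exact Subtype.ext (eM.symm.injective (h6.trans (map_one _).symm))

end Main

/-! ### The rows -/

section Rows

variable {K : Type*} [Group K] {F : Type} [Field F] [Fintype F] {m : ℕ}

omit [Fintype F] in
theorem two_ne [Fintype F] (h3 : Fintype.card F = 3) : (2 : F) ≠ 0 := by
  have h30 : (3 : F) = 0 := by
    have h := FiniteField.cast_card_eq_zero F
    rw [h3] at h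
    exact_mod_cast h
  intro h
  apply one_ne_zero (α := F)
  linear_combination h30 - h

/-- **`PΩ_{2m+1}(3)`, `m ≥ 4`.** -/
theorem hasY_odd (h3 : Fintype.card F = 3) (hm : 4 ≤ m) (f : K ≃* Cfsg.POmega F (Cfsg.quadFormOdd m F)) : HasYF K := by
  rw [← coe_oddForm] at f
  have hG : Good (oddForm m F) := by
    apply good_of_finite (nondeg_oddForm m F (two_ne h3))
    rw [Module.finrank_fintype_fun_eq_card, Fintype.card_sum, Fintype.card_sum, Fintype.card_fin,
      Fintype.card_unit]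
    omega
  refine hasY_of_emb f hG (ofW (wodd m F) hm (two_ne h3)) h3 ?_
  rw [Fintype.card_sum, Fintype.card_sum, Fintype.card_fin, Fintype.card_unit]
  omega

/-- **`PΩ⁺_{2m}(3)`, `m ≥ 5`.** -/
theorem hasY_plus (h3 : Fintype.card F = 3) (hm : 5 ≤ m) (f : K ≃* Cfsg.POmega F (Cfsg.quadFormPlus m F)) :
    HasYF K := by
  rw [← coe_plusForm] at f
  have hG : Good (plusForm m F) := by
    apply good_of_finite (nondeg_plusForm m F)
    rw [Module.finrank_fintype_fun_eq_card, Fintype.card_sum, Fintype.card_fin]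
    omega
  refine hasY_of_emb f hG (ofW (wplus m F) (by omega) (two_ne h3)) h3 ?_
  rw [Fintype.card_sum, Fintype.card_fin]
  omega

/-- **`PΩ⁻_{2m+2}(3)`, `m ≥ 4`.** -/
theorem hasY_minus (h3 : Fintype.card F = 3) {a b : F}
    (hab : ∀ z₁ z₂ : F, z₁ ^ 2 + a * z₁ * z₂ + b * z₂ ^ 2 = 0 → z₁ = 0 ∧ z₂ = 0) (hm : 4 ≤ m)
    (f : K ≃* Cfsg.POmega F (Cfsg.quadFormMinus m F a b)) : HasYF K := by
  rw [← coe_minusForm] at f
  have hG : Good (minusForm m F a b) := by
    apply good_of_finite (nondeg_minusForm m F a b hab)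
    rw [Module.finrank_fintype_fun_eq_card, Fintype.card_sum, Fintype.card_sum, Fintype.card_fin,
      Fintype.card_fin]
    omega
  refine hasY_of_emb f hG (ofW (wminus m F a b hab) hm (two_ne h3)) h3 ?_
  rw [Fintype.card_sum, Fintype.card_sum, Fintype.card_fin, Fintype.card_fin]
  omega

/-- the row `PΩ_{2m+1}(3)` of F13: everything but `PΩ₇(3)` -/
theorem row_odd (h : LieOddFam.FOdd K 3)
    (hs : ¬ ∃ (F : Type) (_ : Field F) (_ : Fintype F), Fintype.card F = 3 ∧
      Nonempty (K ≃* Cfsg.POmega F (Cfsg.quadFormOdd 3 F))) : HasYF K := by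
  obtain ⟨F, _, _, m, h3, hm, ⟨f⟩⟩ := h
  rcases Nat.lt_or_ge m 4 with h4 | h4
  · have : m = 3 := by omega
    subst this
    exact absurd ⟨F, inferInstance, inferInstance, h3, ⟨f⟩⟩ hs
  · exact hasY_odd h3 h4 f

/-- the row `PΩ⁺_{2m}(3)` of F13: everything but `PΩ⁺₈(3)` -/
theorem row_plus (h : LieOddFam.FPlus K 3)
    (hs : ¬ ∃ (F : Type) (_ : Field F) (_ : Fintype F), Fintype.card F = 3 ∧
      Nonempty (K ≃* Cfsg.POmega F (Cfsg.quadFormPlus 4 F))) : HasYF K := by
  obtain ⟨F, _, _, m, h3, hm, ⟨f⟩⟩ := h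
  rcases Nat.lt_or_ge m 5 with h4 | h4
  · have : m = 4 := by omega
    subst this
    exact absurd ⟨F, inferInstance, inferInstance, h3, ⟨f⟩⟩ hs
  · exact hasY_plus h3 h4 f

/-- the row `PΩ⁻_{2m}(3)` of F13: everything but `PΩ⁻₈(3)` -/
theorem row_minus (h : LieOddFam.FMinus K 3)
    (hs : ¬ ∃ (F : Type) (_ : Field F) (_ : Fintype F) (b c : F), Fintype.card F = 3 ∧
      (∀ z₁ z₂ : F, z₁ ^ 2 + b * z₁ * z₂ + c * z₂ ^ 2 = 0 → z₁ = 0 ∧ z₂ = 0) ∧
      Nonempty (K ≃* Cfsg.POmega F (Cfsg.quadFormMinus 3 F b c))) : HasYF K := by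
  obtain ⟨F, _, _, m, b, c, h3, hm, hab, ⟨f⟩⟩ := h
  rcases Nat.lt_or_ge m 5 with h4 | h4
  · have : m = 4 := by omega
    subst this
    exact absurd ⟨F, inferInstance, inferInstance, b, c, h3, hab, ⟨f⟩⟩ hs
  · exact hasY_minus h3 hab (by omega) f

end Rows

end Cfsg.Agent.OddHalf.NI3.K.OrthY

end
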