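import Cfsg.Agent.OddHalf.NI.SUClosed
import Cfsg.Agent.OddHalf.NI.CoverOf
import Cfsg.Agent.OddHalf.NI.SUOdd
import Cfsg.Agent.OddHalf.NI3.K.EvenSheet
import Cfsg.Agent.OddHalf.NI.ClosedSL
import Cfsg.Agent.OddHalf.NI.FrameSp
import Cfsg.Agent.OddHalf.NI.FrameSU
import Cfsg.Agent.OddHalf.NI.SpClosed
import Cfsg.Agent.S0269
import Cfsg.Agent.OddHalf.NI3.K.Blk
import Cfsg.Agent.SignalizersComponents.SLQuasisimple
import Cfsg.Agent.OddHalf.NI3.K.Sp
import Cfsg.Agent.OddHalf.NI.SUBlocks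
import Cfsg.Agent.S0283
import Mathlib
import Cfsg.Agent.S0319
import Cfsg.Agent.Nodes.Block
import Cfsg.Agent.Nodes.ZRel
import Cfsg.Agent.Nodes.StdConn
import Cfsg.Prelude.Def_CaseTheorems
import Cfsg.Agent.Nodes.Unique
import Cfsg.Agent.Nodes.Perp
import Cfsg.Agent.OddHalf.NI3.Fr.Final
import Cfsg.Agent.OddHalf.NI3.Props
import Cfsg.Agent.Nodes.ClsMap
import Cfsg.Agent.Nodes.LeviStd
import Cfsg.Agent.Nodes.NormalForm
import Cfsg.Agent.OddHalf.NI.ClsFrame
import Cfsg.Agent.OddHalf.NI.ModelChev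
import Cfsg.Agent.Nodes.ChevChart
import Cfsg.Agent.Nodes.KindE
import Cfsg.Agent.OddHalf.NI3.K.Congr
import Cfsg.Agent.OddHalf.NI.OmegaPlusRow
import Cfsg.Agent.OddHalf.NI3.K.SmallOrth
import Cfsg.Agent.OddHalf.NI3.K.OrthY
import Cfsg.Agent.OddHalf.NI3.K.LiftY

-- merged: Cfsg.Agent.OddHalf.NI.SUClo
section

/-!
# `SU_{2m}(q)` is closed, in the forms of `CoverOf.Closed2` and `SUOdd.Clo` (node NI, (T'))
-/

set_option autoImplicit false

namespace Cfsg.Agent.OddHalf.NI.SUClo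

open Cfsg

universe u v

theorem closed2 {F : Type v} [Field F] [Fintype F] {m q : ℕ} (hF : Fintype.card F = q ^ 2) (hq : Odd q)
    (hm : 2 ≤ m) : CoverOf.Closed2.{u} (SU (2 * m) F q) :=
  fun _ _ _ _ hs hc h2 hE => SUClosed.closed_SU hF hq hm hE hs hc h2

theorem clo {F : Type v} [Field F] [Fintype F] {m q : ℕ} (hF : Fintype.card F = q ^ 2) (hq : Odd q)
    (hm : 2 ≤ m) : SUOdd.Clo.{u} (SU (2 * m) F q) :=
  fun _ _ _ _ hE hs hc h2 => SUClosed.closed_SU hF hq hm hE hs hc h2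

/-- the field `su` of `FrameFactOf.Open` -/
theorem su (F : Type) [Field F] [Fintype F] (m q : ℕ) (ho : Odd (Fintype.card F)) (_ : 3 < q)
    (hF : Fintype.card F = q ^ 2) (hm : 2 ≤ m) : SUOdd.Clo.{u} (SU (2 * m) F q) := by
  refine clo hF ?_ hm
  rw [hF] at ho
  exact (Nat.odd_pow_iff two_ne_zero).1 ho

end Cfsg.Agent.OddHalf.NI.SUClo

end

-- merged: Cfsg.Agent.OddHalf.NI3.K.SmallLin
section

/-!
# Even central involutions of the covers of `L₄(3)`, `PSp₄(3)`, `U₄(3)` (NI over `F_3`, F13 (R8); helper643)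

* `even_sl`, `even_sp`, `even_su` : the image of `-1` under `φ : SL_{2m}(F) → N` etc. is `Even8` if it is not `1`;
* `row_sl` : `K / Z(K) ≅ PSL_{2m}(3)`, `Z(K) ≠ 1`: there is `z ∈ Z(K)` with `Even8 z`;
* `row_sp` : the same for `PSp_{2m}(q)`, `q` odd;
* `row_su4` : the same for `U₄(3)`, `|Z(K)| ≠ 2`.
-/

set_option autoImplicit false

namespace Cfsg.Agent.OddHalf.NI3.K.SmallLin

open Matrix Subgroup Cfsg
open Cfsg.Agent.OddHalf.NI (Even8 Blocks FrameSL.neg FrameSL.neg_coe FrameSL.blocks FrameSL.reidx)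
open Cfsg.Agent.OddHalf.NI

universe u

/-! ### `SL` -/

section SL

variable {F : Type} [Field F] [Fintype F]

/-- the image of `-1 ∈ SL_{2m}(F)` is even -/
theorem even_sl (hodd : Odd (Fintype.card F)) {m n : ℕ} (hm : 2 ≤ m) (hn : n = 2 * m) {N : Type*} [Group N]
    (φ : Matrix.SpecialLinearGroup (Fin n) F →* N) {c : Matrix.SpecialLinearGroup (Fin n) F}
    (hc : (c : Matrix (Fin n) (Fin n) F) = -1) (h1 : φ c ≠ 1) : Even8 (φ c) := by
  have h2 : (2 : F) ≠ 0 := Blocks.two_ne_zero_of_odd hodd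
  let f : Fin 2 × Fin m ≃ Fin n := finProdFinEquiv.trans (finCongr (by omega))
  let ψ : Matrix.SpecialLinearGroup (Fin 2 × Fin m) F →* N := φ.comp (FrameSL.reidx f).toMonoidHom
  have hcc : FrameSL.reidx f (FrameSL.neg m F) = c := by
    apply Subtype.ext
    change reindex f f (FrameSL.neg m F : Matrix (Fin 2 × Fin m) (Fin 2 × Fin m) F) = (c : Matrix (Fin n) (Fin n) F)
    rw [FrameSL.neg_coe, hc]
    ext i j
    simp [Matrix.one_apply]
  have hψc : ψ (FrameSL.neg m F) = φ c := by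
    change φ (FrameSL.reidx f (FrameSL.neg m F)) = φ c
    rw [hcc]
  rw [← hψc]
  exact EvenGen.even_blocks hodd (FrameSL.blocks (F := F) h2 hm) ψ (by rw [hψc]; exact h1)

theorem row_sl (h3 : Fintype.card F = 3) {m : ℕ} (hm : 2 ≤ m) {K : Type u} [Group K] [Finite K]
    (hq : IsQuasisimple K) (h2 : IsPGroup 2 ↥(center K)) (hZ : center K ≠ ⊥)
    (e : K ⧸ center K ≃* Matrix.ProjectiveSpecialLinearGroup (Fin (2 * m)) F) : ∃ z ∈ center K, Even8 z := by
  have hodd : Odd (Fintype.card F) := by rw [h3]; decide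
  have hS := Cfsg.Agent.S0248.result (2 * m) (by omega : 3 ≤ 2 * m) (F := F)
  obtain ⟨φ, hs, hk⟩ := CoverOf.exists_cover hq.1.commutator_eq_top h2 hS (ClosedSL.closed hodd (by omega)) e
  obtain ⟨⟨z, hz⟩, hz1⟩ := (Subgroup.ne_bot_iff_exists_ne_one (H := center K)).1 hZ
  have hz1 : z ≠ 1 := fun h => hz1 (Subtype.ext h)
  refine ⟨z, hz, ?_⟩
  obtain ⟨c, hcz⟩ := hs z
  have hc : c ∈ center (Matrix.SpecialLinearGroup (Fin (2 * m)) F) :=
    LinEnd.mem_center_of_map φ hk hS (by rw [hcz]; exact hz)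
  obtain ⟨r, hr1, hr⟩ := Matrix.SpecialLinearGroup.mem_center_iff.mp hc
  have hr0 : r ≠ 0 := by
    rintro rfl
    rw [zero_pow (by rw [Fintype.card_fin]; omega)] at hr1
    exact zero_ne_one hr1
  have hrr : r * r = 1 := by
    have := FiniteField.pow_card_sub_one_eq_one r hr0
    rwa [h3, pow_two] at this
  have hcc : c * c = 1 := by
    apply Subtype.ext
    rw [Matrix.SpecialLinearGroup.coe_mul, Matrix.SpecialLinearGroup.coe_one, ← hr, ← map_mul, hrr, map_one]
  rcases LinEnd.sl_eq hc hcc with h | h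
  · exact absurd (by rw [← hcz, h, map_one]) hz1
  · rw [← hcz]
    exact even_sl hodd hm rfl φ h (by rw [hcz]; exact hz1)

end SL

/-! ### `Sp` -/

section Sp

variable {F : Type} [Field F] [Fintype F]

theorem even_sp (hodd : Odd (Fintype.card F)) {m : ℕ} (hm : 2 ≤ m) {N : Type*} [Group N]
    (φ : Matrix.symplecticGroup (Fin m) F →* N) (h1 : φ (FrameSp.neg m F) ≠ 1) : Even8 (φ (FrameSp.neg m F)) :=
  EvenGen.even_blocks hodd (FrameSp.blocks (F := F) (Blocks.two_ne_zero_of_odd hodd) hm) φ h1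

theorem row_sp (hodd : Odd (Fintype.card F)) {m : ℕ} (hm : 2 ≤ m) {K : Type u} [Group K] [Finite K]
    (hq : IsQuasisimple K) (h2 : IsPGroup 2 ↥(center K)) (hZ : center K ≠ ⊥)
    (e : K ⧸ center K ≃* PSp m F) : ∃ z ∈ center K, Even8 z := by
  classical
  have h3 : 3 ≤ Fintype.card F := by
    have h5 : 1 < Fintype.card F := Fintype.one_lt_card
    obtain ⟨k, hk⟩ := hodd
    omega
  have hS := Cfsg.Agent.S0269.result m (by omega) (F := F)
  obtain ⟨φ, hs, hk⟩ := CoverOf.exists_cover hq.1.commutator_eq_top h2 hS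
    (SpClosed.closed2 hodd (by omega)) e
  obtain ⟨⟨z, hz⟩, hz1⟩ := (Subgroup.ne_bot_iff_exists_ne_one (H := center K)).1 hZ
  have hz1 : z ≠ 1 := fun h => hz1 (Subtype.ext h)
  refine ⟨z, hz, ?_⟩
  obtain ⟨c, rfl⟩ := hs z
  have hc : c ∈ center (Matrix.symplecticGroup (Fin m) F) := LinEnd.mem_center_of_map φ hk hS hz
  rcases FrameSp.center_cases (by omega : 1 ≤ m) hc with rfl | rfl
  · exact absurd (map_one φ) hz1
  · exact even_sp hodd hm φ hz1

end Sp

/-! ### `SU` -/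

section SU

open Cfsg.Agent.Phan Cfsg.Agent.LieClassical.SUBasic

variable {F : Type} [Field F] [Fintype F] {q : ℕ}

theorem even_su (hF : Fintype.card F = q ^ 2) (hodd : Odd q) {m : ℕ} (hm : 2 ≤ m) {N : Type*} [Group N]
    (φ : SU (2 * m) F q →* N) (h1 : φ (SUBlocks.neg m F hF) ≠ 1) : Even8 (φ (SUBlocks.neg m F hF)) := by
  obtain ⟨K, _, _, hK⟩ := Cfsg.Agent.S0280.exists_field hF
  obtain ⟨σ⟩ := Cfsg.Agent.S0281.result hF hK
  have hoddK : Odd (Fintype.card K) := by rw [hK]; exact hodd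
  exact EvenGen.even_blocks hoddK
    (SUBlocks.blocks hF hodd (Blocks.two_ne_zero_of_odd hoddK) σ.symm hm) φ h1

theorem row_su4 (hF : Fintype.card F = 9) {K : Type u} [Group K] [Finite K]
    (hq : IsQuasisimple K) (h2 : IsPGroup 2 ↥(center K)) (hZ : center K ≠ ⊥) (h4 : Nat.card ↥(center K) ≠ 2)
    (e : K ⧸ center K ≃* PSU 4 F 3) : ∃ z ∈ center K, Even8 z := by
  have hF' : Fintype.card F = 3 ^ 2 := by rw [hF]; norm_num
  have hS : commutator (SU 4 F 3) = ⊤ :=
    Cfsg.Agent.LieClassical.HermPerfect.commutator_SU_eq_top hF' (by norm_num) (by norm_num)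
  have h20 : (2 : F) ≠ 0 := Blocks.two_ne_zero_of_odd (by rw [hF]; decide)
  obtain ⟨φ, hs, hk⟩ := CoverOf.exists_cover hq.1.commutator_eq_top h2 hS
    (SUClo.closed2 (m := 2) hF' (by decide) le_rfl) e
  have hneg : SUBlocks.neg 2 F hF' ∈ center (SU (2 * 2) F 3) := by
    rw [mem_center_SU_iff hF' (by norm_num)]
    refine ⟨-1, by norm_num, by norm_num, ?_⟩
    apply mat_inj
    rw [SUBlocks.mat_neg]
    have h1 : mat (suScalar 3 (-1) (by norm_num) (by norm_num) : SU 4 F 3) = diagonal fun _ => (-1 : F) :=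
      coe_suScalar ..
    rw [h1]
    ext i j
    by_cases h : i = j <;> simp [h]
  have h1 : φ (SUBlocks.neg 2 F hF') ≠ 1 := by
    intro h1
    -- the centre has order at most two
    have key : ∀ z ∈ center K, z ≠ 1 → ∃ r : F, r * r = -1 ∧ ∃ c : SU 4 F 3, φ c = z ∧
        mat c = diagonal fun _ => r := by
      intro z hz hz1
      obtain ⟨c, rfl⟩ := hs z
      have hc : c ∈ center (SU 4 F 3) := LinEnd.mem_center_of_map φ hk hS hz
      obtain ⟨r, hr, hr', rfl⟩ := (mem_center_SU_iff hF' (by norm_num) c).1 hc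
      have e1 : mat (suScalar 3 r hr hr' : SU 4 F 3) = diagonal fun _ => r := coe_suScalar ..
      refine ⟨r, ?_, _, rfl, e1⟩
      have h5 : (r * r - 1) * (r * r + 1) = 0 := by linear_combination hr
      rcases mul_eq_zero.1 h5 with h5 | h5
      · exfalso
        have h6 : (r - 1) * (r + 1) = 0 := by linear_combination h5
        rcases mul_eq_zero.1 h6 with h6 | h6
        · have h7 : r = 1 := by linear_combination h6
          apply hz1
          have h8 : (suScalar 3 r hr hr' : SU 4 F 3) = 1 := by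
            apply mat_inj
            rw [e1, h7, mat_one, diagonal_one]
          rw [h8, map_one]
        · have h7 : r = -1 := by linear_combination h6
          apply hz1
          have h8 : (suScalar 3 r hr hr' : SU 4 F 3) = SUBlocks.neg 2 F hF' := by
            apply mat_inj
            rw [e1, h7, SUBlocks.mat_neg]
            ext i j
            by_cases h : i = j <;> simp [h]
          rw [h8]
          exact h1
      · linear_combination h5
    obtain ⟨⟨z, hz⟩, hz1⟩ := (Subgroup.ne_bot_iff_exists_ne_one (H := center K)).1 hZ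
    have hz1 : z ≠ 1 := fun h => hz1 (Subtype.ext h)
    obtain ⟨r, hr, c, hc, hcr⟩ := key z hz hz1
    apply h4
    rw [Nat.card_eq_two_iff]
    refine ⟨1, ⟨z, hz⟩, fun h => hz1 (congrArg Subtype.val h).symm, ?_⟩
    rw [Set.eq_univ_iff_forall]
    rintro ⟨w, hw⟩
    by_cases hw1 : w = 1
    · left; exact Subtype.ext hw1
    · right
      obtain ⟨s, hs', d, hd, hds⟩ := key w hw hw1
      apply Subtype.ext
      show w = z
      have h5 : (s - r) * (s + r) = 0 := by linear_combination hs' - hr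
      rcases mul_eq_zero.1 h5 with h5 | h5
      · have h6 : s = r := by linear_combination h5
        rw [← hd, ← hc]
        congr 1
        apply mat_inj
        rw [hds, hcr, h6]
      · have h6 : s = -r := by linear_combination h5
        have h7 : d = SUBlocks.neg 2 F hF' * c := by
          apply mat_inj
          have h8 : mat (SUBlocks.neg 2 F hF' * c) = mat (SUBlocks.neg 2 F hF') * mat c := mat_mul _ _
          rw [h8, SUBlocks.mat_neg, hcr, hds, h6, neg_mul, one_mul]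
          ext i j
          by_cases h : i = j <;> simp [h]
        rw [← hd, ← hc, h7, map_mul, h1, one_mul]
  refine ⟨_, ?_, even_su (m := 2) hF' (by decide) le_rfl φ h1⟩
  rw [Subgroup.mem_center_iff]
  intro y
  obtain ⟨x, rfl⟩ := hs y
  rw [← map_mul, ← map_mul, Subgroup.mem_center_iff.1 hneg x]

end SU

end Cfsg.Agent.OddHalf.NI3.K.SmallLin

end

-- merged: Cfsg.Agent.OddHalf.NI3.K.SL
section

/-!
# Row (R1), linear half, of F13 (NI over F_3; bb ODD #14361)

`PSL_n(3)`, `n ≥ 5`, has `HasYF`: `y` is the image of `-1 ⊕ 1`, `M` the image of `SL₄(3) ⊕ 1`.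
-/

set_option autoImplicit false

namespace Cfsg.Agent.OddHalf.NI3.K.SL

open Matrix Subgroup Cfsg Cfsg.Agent.OddHalf.LieOddFam
open Cfsg.Agent.OddHalf.NI (Even8)
open Cfsg.Agent.OddHalf.NI.FrameSL (reidx)

universe u

variable {F : Type} [Field F] {k : ℕ}

/-- the block -/
def emb : Matrix.SpecialLinearGroup (Fin 4) F →* Matrix.SpecialLinearGroup (Fin 4 ⊕ Fin k) F where
  toFun a := ⟨fromBlocks (a : Matrix (Fin 4) (Fin 4) F) 0 0 1, by
    rw [det_fromBlocks_zero₂₁, a.2, det_one, one_mul]⟩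
  map_one' := by
    apply Subtype.ext
    change fromBlocks (1 : Matrix (Fin 4) (Fin 4) F) 0 0 1 = 1
    exact fromBlocks_one
  map_mul' a b := by
    apply Subtype.ext
    change fromBlocks ((a : Matrix (Fin 4) (Fin 4) F) * (b : Matrix (Fin 4) (Fin 4) F)) 0 0 1 =
      fromBlocks (a : Matrix (Fin 4) (Fin 4) F) 0 0 1 * fromBlocks (b : Matrix (Fin 4) (Fin 4) F) 0 0 1
    rw [fromBlocks_multiply]
    simp

theorem emb_coe (a : Matrix.SpecialLinearGroup (Fin 4) F) :
    ((emb a : Matrix.SpecialLinearGroup (Fin 4 ⊕ Fin k) F) : Matrix (Fin 4 ⊕ Fin k) (Fin 4 ⊕ Fin k) F) =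
      fromBlocks (a : Matrix (Fin 4) (Fin 4) F) 0 0 1 := rfl

/-- `-1` -/
def neg : Matrix.SpecialLinearGroup (Fin 4) F := ⟨-1, by rw [det_neg, det_one]; norm_num⟩

theorem neg_coe : ((neg : Matrix.SpecialLinearGroup (Fin 4) F) : Matrix (Fin 4) (Fin 4) F) = -1 := rfl

theorem neg_mem_center : (neg : Matrix.SpecialLinearGroup (Fin 4) F) ∈ center _ := by
  rw [mem_center_iff]
  intro g
  apply Subtype.ext
  change (g : Matrix (Fin 4) (Fin 4) F) * -1 = -1 * (g : Matrix (Fin 4) (Fin 4) F)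
  rw [mul_neg, neg_mul, mul_one, one_mul]

theorem norm_emb (h2 : (2 : F) ≠ 0) {g : Matrix.SpecialLinearGroup (Fin 4 ⊕ Fin k) F}
    (hg : g * emb neg = emb neg * g) (a : Matrix.SpecialLinearGroup (Fin 4) F) :
    g * emb a * g⁻¹ ∈ (emb : Matrix.SpecialLinearGroup (Fin 4) F →* _).range := by
  have e1 : (g : Matrix (Fin 4 ⊕ Fin k) (Fin 4 ⊕ Fin k) F) * fromBlocks (-1) 0 0 1 =
      fromBlocks (-1) 0 0 1 * (g : Matrix (Fin 4 ⊕ Fin k) (Fin 4 ⊕ Fin k) F) := congrArg Subtype.val hg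
  obtain ⟨A, B, C, D, hABCD⟩ : ∃ A B C D, (g : Matrix (Fin 4 ⊕ Fin k) (Fin 4 ⊕ Fin k) F) = fromBlocks A B C D :=
    ⟨_, _, _, _, (fromBlocks_toBlocks _).symm⟩
  rw [hABCD, fromBlocks_multiply, fromBlocks_multiply] at e1
  simp only [Matrix.mul_neg, Matrix.mul_one, Matrix.mul_zero, add_zero, zero_add, Matrix.neg_mul, Matrix.one_mul,
    Matrix.zero_mul] at e1
  rw [fromBlocks_inj] at e1
  have hB : B = 0 := by
    have h1 : B = -B := e1.2.1
    ext i j
    have h3 : B i j = - B i j := congrFun (congrFun h1 i) j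
    have h4 : (2 : F) * B i j = 0 := by linear_combination h3
    exact (mul_eq_zero.1 h4).resolve_left h2
  have hC : C = 0 := by
    have h1 : -C = C := e1.2.2.1
    ext i j
    have h3 : - C i j = C i j := congrFun (congrFun h1 i) j
    have h4 : (2 : F) * C i j = 0 := by linear_combination -h3
    exact (mul_eq_zero.1 h4).resolve_left h2
  rw [hB, hC] at hABCD
  have hdet : A.det * D.det = 1 := by
    have h1 := g.2
    rw [hABCD, det_fromBlocks_zero₂₁] at h1
    exact h1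
  have hA : IsUnit A.det := IsUnit.of_mul_eq_one _ hdet
  have hb : (A * (a : Matrix (Fin 4) (Fin 4) F) * A⁻¹).det = 1 := by
    rw [det_mul, det_mul, a.2, mul_one, det_nonsing_inv]
    exact Ring.mul_inverse_cancel _ hA
  refine ⟨⟨A * (a : Matrix (Fin 4) (Fin 4) F) * A⁻¹, hb⟩, ?_⟩
  rw [eq_mul_inv_iff_mul_eq]
  apply Subtype.ext
  change fromBlocks (A * (a : Matrix (Fin 4) (Fin 4) F) * A⁻¹) 0 0 1 *
    (g : Matrix (Fin 4 ⊕ Fin k) (Fin 4 ⊕ Fin k) F) = (g : Matrix (Fin 4 ⊕ Fin k) (Fin 4 ⊕ Fin k) F) *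
      fromBlocks (a : Matrix (Fin 4) (Fin 4) F) 0 0 1
  rw [hABCD, fromBlocks_multiply, fromBlocks_multiply]
  simp only [Matrix.mul_one, Matrix.mul_zero, add_zero, zero_add, Matrix.one_mul, Matrix.zero_mul]
  rw [Matrix.mul_assoc, nonsing_inv_mul _ hA, Matrix.mul_one]

theorem emb_center (hk : 0 < k) {a : Matrix.SpecialLinearGroup (Fin 4) F}
    (h : emb a ∈ center (Matrix.SpecialLinearGroup (Fin 4 ⊕ Fin k) F)) : a = 1 := by
  obtain ⟨r, -, h1⟩ := Matrix.SpecialLinearGroup.mem_center_iff.mp h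
  rw [emb_coe] at h1
  have h2 := congrFun (congrFun h1 (Sum.inr ⟨0, hk⟩)) (Sum.inr ⟨0, hk⟩)
  simp at h2
  subst h2
  apply Subtype.ext
  ext i j
  have h3 := congrFun (congrFun h1 (Sum.inl i)) (Sum.inl j)
  simp only [scalar_apply, fromBlocks_apply₁₁] at h3
  rw [← h3]
  by_cases hij : i = j
  · subst hij; simp
  · simp [hij, Matrix.one_apply_ne hij]

theorem emb_injective : Function.Injective (emb : Matrix.SpecialLinearGroup (Fin 4) F →*
    Matrix.SpecialLinearGroup (Fin 4 ⊕ Fin k) F) := by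
  intro a b h
  have h1 := congrArg Subtype.val h
  change fromBlocks _ _ _ _ = fromBlocks _ _ _ _ at h1
  rw [fromBlocks_inj] at h1
  exact Subtype.ext h1.1

/-- the centre of `SL₄(F)` is a 2-group -/
theorem center_two : IsPGroup 2 ↥(center (Matrix.SpecialLinearGroup (Fin 4) F)) := by
  rintro ⟨A, hA⟩
  refine ⟨2, Subtype.ext ?_⟩
  rw [Subgroup.coe_pow, Subgroup.coe_one]
  obtain ⟨r, hr, h1⟩ := Matrix.SpecialLinearGroup.mem_center_iff.mp hA
  apply Subtype.ext
  change ((A ^ (2 ^ 2) : Matrix.SpecialLinearGroup (Fin 4) F) : Matrix (Fin 4) (Fin 4) F) = 1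
  rw [Matrix.SpecialLinearGroup.coe_pow, ← h1, ← map_pow]
  have h2 : r ^ 2 ^ 2 = 1 := by simpa using hr
  rw [h2, map_one]

/-- **row (R1)**, linear half, for the model -/
theorem hasYF_of_equiv {F : Type} [Field F] [Fintype F] (hF : Fintype.card F = 3) {k : ℕ} (hk : 0 < k)
    {K : Type u} [Group K] (f : K ≃* Matrix.ProjectiveSpecialLinearGroup (Fin (4 + k)) F) : HasYF K := by
  have hodd : Odd (Fintype.card F) := by rw [hF]; decide
  have h2 : (2 : F) ≠ 0 := NI.Blocks.two_ne_zero_of_odd hodd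
  have hqs : IsQuasisimple (Matrix.SpecialLinearGroup (Fin 4) F) :=
    SignalizersComponents.SLQuasisimple.isQuasisimple_of_three_le (by simp)
  have hr : Rk (Matrix.SpecialLinearGroup (Fin 4) F ⧸ center (Matrix.SpecialLinearGroup (Fin 4) F)) 3 :=
    Or.inl ⟨F, _, _, 4, hF, by omega, ⟨MulEquiv.refl _⟩⟩
  have h1 : (neg : Matrix.SpecialLinearGroup (Fin 4) F) ≠ 1 := by
    intro h
    have h3 := congrFun (congrFun (congrArg Subtype.val h) 0) 0
    change (-1 : Matrix (Fin 4) (Fin 4) F) 0 0 = (1 : Matrix (Fin 4) (Fin 4) F) 0 0 at h3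
    simp at h3
    apply h2
    linear_combination -h3
  have he : Even8 (neg : Matrix.SpecialLinearGroup (Fin 4) F) :=
    SmallLin.even_sl hodd (m := 2) (n := 4) le_rfl rfl (MonoidHom.id _) neg_coe h1
  let φ : Matrix.SpecialLinearGroup (Fin 4 ⊕ Fin k) F →* K :=
    (f.symm.toMonoidHom.comp (QuotientGroup.mk' _)).comp (reidx (F := F) finSumFinEquiv).toMonoidHom
  have hs : Function.Surjective φ :=
    (f.symm.surjective.comp (QuotientGroup.mk'_surjective _)).comp (reidx (F := F) finSumFinEquiv).surjective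
  have hker : φ.ker ≤ center (Matrix.SpecialLinearGroup (Fin 4 ⊕ Fin k) F) := by
    intro x hx
    rw [MonoidHom.mem_ker] at hx
    change f.symm (QuotientGroup.mk' _ (reidx (F := F) finSumFinEquiv x)) = 1 at hx
    rw [map_eq_one_iff _ f.symm.injective] at hx
    have h4 : reidx (F := F) finSumFinEquiv x ∈ center (Matrix.SpecialLinearGroup (Fin (4 + k)) F) :=
      (QuotientGroup.eq_one_iff _).1 hx
    rw [mem_center_iff] at h4 ⊢
    intro y
    apply (reidx (F := F) finSumFinEquiv).injective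
    rw [map_mul, map_mul]
    exact h4 _
  refine hasYF_of_block φ hs hker emb hqs neg_mem_center he hr center_two (fun g hg a => norm_emb h2 hg a) ?_
  rw [injective_iff_map_eq_one]
  intro a ha
  have h4 : emb a ∈ φ.ker := ha
  exact emb_center hk (hker h4)

/-- **row (R1)**, linear half: `PSL_n(3)`, `n ≥ 5`, has `HasYF`. -/
theorem row_sl {K : Type u} [Group K] (h : FL K 3)
    (h3 : ¬ ∃ (F : Type) (_ : Field F) (_ : Fintype F), Fintype.card F = 3 ∧
      Nonempty (K ≃* Matrix.ProjectiveSpecialLinearGroup (Fin 3) F))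
    (h4 : ¬ ∃ (F : Type) (_ : Field F) (_ : Fintype F), Fintype.card F = 3 ∧
      Nonempty (K ≃* Matrix.ProjectiveSpecialLinearGroup (Fin 4) F)) : HasYF K := by
  obtain ⟨F, _, _, n, hF, hn, ⟨f⟩⟩ := h
  have hn3 : n ≠ 3 := by
    rintro rfl
    exact h3 ⟨F, _, _, hF, ⟨f⟩⟩
  have hn4 : n ≠ 4 := by
    rintro rfl
    exact h4 ⟨F, _, _, hF, ⟨f⟩⟩
  obtain ⟨k, rfl⟩ := Nat.exists_eq_add_of_le (show 4 ≤ n by omega)
  exact hasYF_of_equiv hF (by omega) f

end Cfsg.Agent.OddHalf.NI3.K.SL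

end

-- merged: Cfsg.Agent.OddHalf.NI3.K.SU
section

/-!
# Row (R1), unitary half, of F13 (NI over F_3; bb ODD #14361)

`PSU_n(3)`, `n ≥ 5`, has `HasY`: `y` is the image of `-1 ⊕ 1`, `M` the image of `SU₄(3) ⊕ 1`.
-/

set_option autoImplicit false

namespace Cfsg.Agent.OddHalf.NI3.K.SU

open Matrix Subgroup Cfsg Cfsg.Agent.OddHalf.LieOddFam Cfsg.Agent.Phan Cfsg.Agent.LieClassical.SUBasic
open Cfsg.Agent.OddHalf.NI (Even8 Blocks)
open Cfsg.Agent.OddHalf.NI.Blocks (negOne)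
open Cfsg.Agent.OddHalf.NI.SUBlocks (neg mat_neg ext_conj act)
open scoped commutatorElement

universe u

variable {F : Type} [Field F] [Fintype F] {q n : ℕ}

/-- `-1 ∈ SU_{2m}` is central -/
theorem neg_mem_center (hF : Fintype.card F = q ^ 2) (m : ℕ) : neg m F hF ∈ center (SU (2 * m) F q) := by
  rw [mem_center_iff]
  intro g
  apply mat_inj
  rw [mat_mul, mat_mul, mat_neg, Matrix.mul_neg, Matrix.neg_mul, Matrix.mul_one, Matrix.one_mul]

/-- `-1 ∈ SU₄(3)` is even -/
theorem even8_neg (hF : Fintype.card F = q ^ 2) (hq : q = 3) : Even8 (neg 2 F hF : SU (2 * 2) F q) := by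
  subst hq
  have hodd : Odd 3 := by decide
  obtain ⟨K, _, _, hK⟩ := Cfsg.Agent.S0280.exists_field hF
  obtain ⟨σ⟩ := Cfsg.Agent.S0281.result hF hK
  have h2 : (2 : K) ≠ 0 := NI.Blocks.two_ne_zero_of_odd (by rw [hK]; exact hodd)
  have h3 : (3 : K) = 0 := by
    have := FiniteField.cast_card_eq_zero K
    rw [hK] at this
    exact_mod_cast this
  let B := NI.SUBlocks.blocks (F := F) hF hodd h2 σ.symm (le_refl 2)
  let c : Matrix.SpecialLinearGroup (Fin 2) K →* SU (2 * 2) F 3 :=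
    { toFun := fun a => B.e 0 a * B.e 1 a
      map_one' := by rw [map_one, map_one, one_mul]
      map_mul' := fun a b => by
        rw [map_mul, map_mul]
        calc B.e 0 a * B.e 0 b * (B.e 1 a * B.e 1 b) = B.e 0 a * (B.e 0 b * B.e 1 a) * B.e 1 b := by group
          _ = B.e 0 a * (B.e 1 a * B.e 0 b) * B.e 1 b := by rw [B.comm 0 1 (by decide)]
          _ = _ := by group }
  have h1 : c (negOne K) = neg 2 F hF := by
    apply mat_inj
    apply Matrix.ext_of_mulVec_single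
    intro j
    funext x
    change (mat (NI.SUBlocks.e hF σ.symm 0 (negOne K) * NI.SUBlocks.e hF σ.symm 1 (negOne K)) *ᵥ _) x = _
    rw [mat_mul, ← Matrix.mulVec_mulVec, act hF hodd h2, act hF hodd h2, mat_neg, Matrix.neg_mulVec, Matrix.one_mulVec,
      Pi.neg_apply]
    have hx : (x : ℕ) < 4 := x.2
    by_cases h0 : (x : ℕ) / 2 = 0
    · rw [if_pos (by simpa using h0), if_neg (by simp; omega)]
    · rw [if_neg (by simpa using h0), if_pos (by simp; omega)]
  rw [← h1]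
  refine (Sp.even8_negOne h3 h2).map c ?_
  rw [h1]
  intro h
  have h4 := congrArg mat h
  rw [mat_neg, mat_one] at h4
  have h5 := congrFun (congrFun h4 0) 0
  rw [Matrix.neg_apply, Matrix.one_apply_eq] at h5
  exact Phan.two_ne_zero_of_odd hF hodd (by linear_combination (-1 : F) * h5)

theorem emb_center (hF : Fintype.card F = q ^ 2) {l : ℕ} (hl : 0 + l ≤ n) (hln : l < n) (hn : 3 ≤ n)
    {a : SU l F q} (h : emb hF 0 hl a ∈ center (SU n F q)) : a = 1 := by
  obtain ⟨r, hr, hr', h⟩ := (mem_center_SU_iff hF (by omega) _).1 h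
  have h1 : mat (emb hF 0 hl a : SU n F q) = diagonal fun _ => r := by
    rw [h]; exact coe_suScalar ..
  have h3 := emb_mulVec_lt hF hl a (fun _ => 1)
    (x := ⟨l, hln⟩) (by change l < _ ∨ _ ≤ l; omega)
  rw [h1, mulVec_diagonal, mul_one] at h3
  apply emb_injective hF 0 hl
  apply mat_inj
  rw [map_one, mat_one, h1, h3, diagonal_one]

/-- the centre of `SU₄(3)` is a 2-group -/
theorem center_two (hF : Fintype.card F = q ^ 2) : IsPGroup 2 ↥(center (SU (2 * 2) F q)) := by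
  rintro ⟨A, hA⟩
  refine ⟨2, Subtype.ext ?_⟩
  rw [Subgroup.coe_pow, Subgroup.coe_one]
  change A ^ (2 ^ 2) = 1
  obtain ⟨r, hr, hr', rfl⟩ := (mem_center_SU_iff hF (by omega) A).1 hA
  apply mat_inj
  have h1 : mat (suScalar q r hr hr' : SU (2 * 2) F q) = diagonal fun _ => r := coe_suScalar ..
  rw [mat_one, show (2 : ℕ) ^ 2 = 1 + 1 + 1 + 1 by norm_num, pow_succ, pow_succ, pow_succ, pow_one, mat_mul, mat_mul,
    mat_mul, h1, diagonal_mul_diagonal, diagonal_mul_diagonal, diagonal_mul_diagonal]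
  have h2 : r * r * r * r = 1 := by
    rw [← hr]; ring
  simp only [h2, diagonal_one]

/-- **row (R1)**, unitary half, for the model -/
theorem hasYF_of_equiv {F : Type} [Field F] [Fintype F] (hF : Fintype.card F = 3 ^ 2) {n : ℕ} (hn : 5 ≤ n)
    {K : Type u} [Group K] (f : K ≃* PSU n F 3) : HasYF K := by
  have hodd : Odd 3 := by decide
  have hqs : IsQuasisimple ↥(SU (2 * 2) F 3) :=
    ⟨⟨Cfsg.Agent.LieClassical.HermPerfect.commutator_SU_eq_top hF (by omega) (by omega)⟩,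
      Cfsg.Agent.S0283.result hF (2 * 2) (by omega) (by omega)⟩
  have hr : Rk (↥(SU (2 * 2) F 3) ⧸ center ↥(SU (2 * 2) F 3)) 3 :=
    Or.inr (Or.inr (Or.inl ⟨F, _, _, 2 * 2, by omega, by omega, ⟨MulEquiv.refl _⟩⟩))
  let φ : SU n F 3 →* K := f.symm.toMonoidHom.comp (QuotientGroup.mk' _)
  have hs : Function.Surjective φ := f.symm.surjective.comp (QuotientGroup.mk'_surjective _)
  have hker : φ.ker = center (SU n F 3) := by
    ext x
    rw [MonoidHom.mem_ker]
    change f.symm (QuotientGroup.mk' _ x) = 1 ↔ _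
    rw [map_eq_one_iff _ f.symm.injective]
    exact QuotientGroup.eq_one_iff x
  have hl : 0 + 2 * 2 ≤ n := by omega
  refine hasYF_of_block φ hs hker.le (emb hF 0 hl) hqs (neg_mem_center hF 2) (even8_neg hF rfl) hr (center_two hF)
    ?_ ?_
  · intro g hg a
    obtain ⟨b, hb⟩ := ext_conj hF (sh_injective _ _) (Phan.two_ne_zero_of_odd hF hodd) (mat_neg hF) hg a
    exact ⟨b, hb⟩
  · rw [injective_iff_map_eq_one]
    intro a ha
    have h1 : emb hF 0 hl a ∈ φ.ker := by simpa using ha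
    rw [hker] at h1
    exact emb_center hF hl (by omega) (by omega) h1

/-- **row (R1)**, unitary half: `PSU_n(3)`, `n ≥ 5`, has `HasYF`. -/
theorem row_su {K : Type u} [Group K] (h : FU K 3)
    (h3 : ¬ ∃ (F : Type) (_ : Field F) (_ : Fintype F), Fintype.card F = 9 ∧ Nonempty (K ≃* PSU 3 F 3))
    (h4 : ¬ ∃ (F : Type) (_ : Field F) (_ : Fintype F), Fintype.card F = 9 ∧ Nonempty (K ≃* PSU 4 F 3)) :
    HasYF K := by
  obtain ⟨F, _, _, n, hF, hn, ⟨f⟩⟩ := h
  have hn3 : n ≠ 3 := by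
    rintro rfl
    exact h3 ⟨F, _, _, hF, ⟨f⟩⟩
  have hn4 : n ≠ 4 := by
    rintro rfl
    exact h4 ⟨F, _, _, hF, ⟨f⟩⟩
  exact hasYF_of_equiv hF (by omega) f

end Cfsg.Agent.OddHalf.NI3.K.SU

end

-- merged: Cfsg.Agent.OddHalf.NI3.K.QS
section

/-!
# Groups with classical root groups are quasisimple (NI over `F_3`, rows F13)

* `le_or_top` : normal subgroups of a perfect group with an irreducible (B,N)-pair with solvable `B` lie in `B` or are
  the whole group;
* `le_center` : a normal subgroup in `B` is central;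
* `quasisimple` : a group generated by the root groups of classical data, irreducible, is quasisimple, if every root is
  not orthogonal to a classical root `≠ ± x`.
-/

set_option autoImplicit false
set_option linter.unusedSectionVars false
set_option linter.dupNamespace false

namespace Cfsg.Agent.OddHalf.NI3.K.QS

open CoxeterSystem Cfsg.Agent.ChevalleyStructure.CoxeterGeom Cfsg.Agent.Tits.Roots Cfsg.Agent.Tits.Core
  Cfsg.Agent.Tits.RootComb Cfsg.Agent.Nodes.Comb Cfsg.Agent.Nodes.Reps Cfsg.Agent.Nodes.BNOf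
  Cfsg.Agent.Nodes.RGDLib Cfsg.Agent.Nodes.Chart Cfsg.Agent.Nodes.Bruhat Cfsg.Agent.Nodes.OppDec
  Cfsg.Agent.Nodes.SubComb Cfsg.Agent.Nodes.Sub

open scoped commutatorElement

/-- Normal subgroups of a perfect group with an irreducible (B,N)-pair with solvable `B`. -/
theorem le_or_top {G : Type*} [Group G] (P : Cfsg.BNPair G) (hirr : P.Irreducible)
    (hsolv : Group.IsSolvable P.B) (hperf : commutator G = ⊤) (H : Subgroup G) [hH : H.Normal] :
    H ≤ P.B ∨ H = ⊤ := by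
  obtain ⟨J, hJ, hHJ⟩ : ∃ J ⊆ P.S, H ⊔ P.B = P.parabolic J :=
    ⟨_, Set.inter_subset_left, LieExceptional.BNPairCore.eq_parabolic le_sup_right⟩
  have hcomm : ∀ s ∈ J, ∀ s' ∈ P.S \ J, s * s' * s⁻¹ * s'⁻¹ ∈ P.B := fun s hs s' hs' =>
    S0319.commute_of_normal P H hJ hHJ hs hs'
  rcases J.eq_empty_or_nonempty with rfl | hJne
  · left
    have : P.parabolic ∅ = P.B := by
      show P.B ⊔ Subgroup.closure ∅ = P.B
      rw [Subgroup.closure_empty, sup_bot_eq]
    rw [← this, ← hHJ]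
    exact le_sup_left
  · right
    rcases (P.S \ J).eq_empty_or_nonempty with hemp | hne
    · have hJS : J = P.S := Set.Subset.antisymm hJ (Set.sdiff_eq_empty.1 hemp)
      have htop : H ⊔ P.B = ⊤ := by
        rw [hHJ, hJS, eq_top_iff, ← P.sup_eq_top]
        refine sup_le le_sup_left ?_
        rw [← P.closure_sup]
        refine sup_le le_sup_right (le_trans inf_le_left le_sup_left)
      have hsurj : Function.Surjective ((QuotientGroup.mk' H).comp P.B.subtype) := by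
        intro q
        obtain ⟨g, rfl⟩ := QuotientGroup.mk'_surjective H q
        have hg : g ∈ H ⊔ P.B := by rw [htop]; trivial
        obtain ⟨h, hh, b, hb, hhb⟩ := (Subgroup.mem_sup_of_normal_left).1 hg
        refine ⟨⟨b, hb⟩, ?_⟩
        have : (QuotientGroup.mk' H) g = (QuotientGroup.mk' H) h * (QuotientGroup.mk' H) b := by
          rw [← map_mul, hhb]
        rw [this]
        have h1 : (QuotientGroup.mk' H) h = 1 := (QuotientGroup.eq_one_iff h).2 hh
        rw [h1, one_mul]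
        rfl
      have hsolvQ : Group.IsSolvable (G ⧸ H) := Group.isSolvable_of_surjective hsurj
      by_contra hne
      have hnt : Nontrivial (G ⧸ H) := by
        rw [← not_subsingleton_iff_nontrivial]
        intro hsub
        exact hne (QuotientGroup.subgroup_eq_top_of_subsingleton H hsub)
      have hlt := Group.IsSolvable.commutator_lt_top_of_nontrivial (G := G ⧸ H)
      have hmap : commutator (G ⧸ H) = ⊤ := by
        have h1 : (commutator G).map (QuotientGroup.mk' H) = commutator (G ⧸ H) := by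
          rw [commutator_def, Subgroup.map_commutator, commutator_def]
          rw [Subgroup.map_top_of_surjective _ (QuotientGroup.mk'_surjective H)]
        rw [← h1, hperf, Subgroup.map_top_of_surjective _ (QuotientGroup.mk'_surjective H)]
      exact hlt.ne hmap
    · exfalso
      obtain ⟨s, hs, s', hs', h⟩ := hirr J hJ hJne hne
      exact h (hcomm s hs s' hs')

variable {I W Y : Type*} [Fintype I] [DecidableEq I] [Group W] [Group Y] {M : CoxeterMatrix I}
  {cs : CoxeterSystem M W} {A : I → I → ℤ} {h : IsCartan M A} {p : ℕ} {T : Subgroup Y} {n : I → Y}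
  {X : (I → ℤ) → Subgroup Y} {R : Set (I → ℤ)} {Z : (I → ℤ) → Subgroup Y} {z : (I → ℤ) → Y}

/-- A normal subgroup contained in `B` is central. -/
theorem le_center [Finite W] (D : RGD cs h p T n X) (hG : G1 cs h X = ⊤) {H : Subgroup Y} [hH : H.Normal]
    (hB : H ≤ RGD.B cs h T X) : H ≤ Subgroup.center Y := by
  have hT : H ≤ T := by
    obtain ⟨k, hk⟩ := exists_rp cs D.nsys (w0 cs)
    have h1 : H ≤ BN cs h T X := by
      rw [← cj_B D hk]
      intro x hx
      rw [mem_cj]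
      apply hB
      have h2 := hH.conj_mem x hx k⁻¹
      rwa [inv_inv] at h2
    rw [← B_inf_BN D]
    exact le_inf hB h1
  have hX : ∀ x, IsRoot cs h x → ∀ a ∈ X x, ∀ t ∈ H, a * t = t * a := by
    intro x hx a ha t ht
    have h1 : t * a * t⁻¹ ∈ X x := by
      have h2 := D.tor x hx t (hT ht)
      have h3 : t * a * t⁻¹ ∈ cj t (X x) := conj_mem_cj.2 ha
      rwa [h2] at h3
    have h5 : t * a * t⁻¹ * a⁻¹ ∈ T := by
      apply hT
      have h4 : t * a * t⁻¹ * a⁻¹ = t * (a * t⁻¹ * a⁻¹) := by group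
      rw [h4]
      exact mul_mem ht (hH.conj_mem _ (H.inv_mem ht) a)
    have h3 : t * a * t⁻¹ * a⁻¹ ∈ X x ⊓ T := Subgroup.mem_inf.2 ⟨mul_mem h1 (inv_mem ha), h5⟩
    rw [X_inf_T D hx, Subgroup.mem_bot, mul_inv_eq_one, mul_inv_eq_iff_eq_mul] at h3
    exact h3.symm
  intro t ht
  rw [Subgroup.mem_center_iff]
  have h1 : G1 cs h X ≤ Subgroup.centralizer ({t} : Set Y) := by
    refine RGD.Sup_le fun x hx a ha => ?_
    rw [Subgroup.mem_centralizer_iff]
    rintro _ rfl
    exact (hX x hx a ha _ ht).symm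
  rw [hG] at h1
  intro g
  exact ((Subgroup.mem_centralizer_iff.1 (h1 (Subgroup.mem_top g))) t rfl).symm

/-- `B` is solvable if `T` is. -/
theorem isSolvable_B [hp : Fact p.Prime] [Finite Y] [Finite W] (D : RGD cs h p T n X) (hT : Group.IsSolvable T) :
    Group.IsSolvable (RGD.B cs h T X) := by
  have hUB : RGD.Sup X (RGD.Pos cs h) ≤ RGD.B cs h T X := RGD.U_le_B
  have hnor : ((RGD.Sup X (RGD.Pos cs h)).subgroupOf (RGD.B cs h T X)).Normal := by
    constructor
    intro u hu b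
    rw [Subgroup.mem_subgroupOf] at hu ⊢
    exact (Subgroup.mem_normalizer_iff.1 (D.B_le_normalizer_U b.2) u).1 hu
  have hUs : Group.IsSolvable ((RGD.Sup X (RGD.Pos cs h)).subgroupOf (RGD.B cs h T X)) := by
    have h1 : IsPGroup p ((RGD.Sup X (RGD.Pos cs h)).subgroupOf (RGD.B cs h T X)) :=
      D.isPGroup_Upos.comap_of_injective (RGD.B cs h T X).subtype (Subgroup.subtype_injective _)
    have h2 := h1.isNilpotent
    infer_instance
  let f : T →* (RGD.B cs h T X) ⧸ ((RGD.Sup X (RGD.Pos cs h)).subgroupOf (RGD.B cs h T X)) :=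
    (QuotientGroup.mk' _).comp (Subgroup.inclusion RGD.T_le_B)
  have hf : Function.Surjective f := by
    intro y
    induction y using QuotientGroup.induction_on with
    | _ b =>
    obtain ⟨t, ht, u, hu, e⟩ := D.mem_B.1 b.2
    refine ⟨⟨t, ht⟩, ?_⟩
    show QuotientGroup.mk (⟨t, RGD.T_le_B ht⟩ : RGD.B cs h T X) = QuotientGroup.mk b
    rw [QuotientGroup.eq, Subgroup.mem_subgroupOf]
    show t⁻¹ * (b : Y) ∈ _
    rw [e, inv_mul_cancel_left]
    exact hu
  have hq : Group.IsSolvable ((RGD.B cs h T X) ⧸ ((RGD.Sup X (RGD.Pos cs h)).subgroupOf (RGD.B cs h T X))) :=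
    Group.isSolvable_of_surjective hf
  exact Group.isSolvable_of_ker_le_range ((RGD.Sup X (RGD.Pos cs h)).subgroupOf (RGD.B cs h T X)).subtype
    (QuotientGroup.mk' ((RGD.Sup X (RGD.Pos cs h)).subgroupOf (RGD.B cs h T X)))
    (by rw [QuotientGroup.ker_mk', Subgroup.range_subtype])

/-- The group generated by the root groups is perfect, if every root is inverted by a classical involution. -/
theorem perfect [Fintype W] (C : Cls cs h p T n X R Z z) (hp : p.Prime) (hodd : p ≠ 2) (hG : G1 cs h X = ⊤)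
    (hR : ∀ x, IsRoot cs h x → ∃ r ∈ R, form cs h x r ≠ 0 ∧ x ≠ r ∧ x ≠ -r) : commutator Y = ⊤ := by
  rw [eq_top_iff, ← hG]
  refine RGD.Sup_le fun x hx a ha => ?_
  obtain ⟨r, hr, h0, h1, h2⟩ := hR x hx
  have h3 := C.z_inv r hr x hx h1 h2 h0 a ha
  have h4 : ⁅z r, a⁆ = (a * a)⁻¹ := by
    rw [commutatorElement_def, Cfsg.Agent.Nodes.ZRel.z_inv' C hr, h3]
    group
  have h5 : a * a ∈ commutator Y := by
    have h6 : (a * a)⁻¹ ∈ commutator Y := by
      rw [← h4]
      exact Subgroup.commutator_mem_commutator (Subgroup.mem_top _) (Subgroup.mem_top _)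
    exact (inv_mem_iff).1 h6
  obtain ⟨k, hk⟩ := C.rgd.pgrp' hx ⟨a, ha⟩
  have hk' : a ^ p ^ k = 1 := congrArg Subtype.val hk
  have hodd' : Odd (p ^ k) := (hp.odd_of_ne_two hodd).pow
  obtain ⟨m, hm⟩ := hodd'
  rw [hm, pow_succ, pow_mul, pow_two] at hk'
  have h7 : a = ((a * a) ^ m)⁻¹ := by
    rw [eq_inv_iff_mul_eq_one, mul_eq_one_iff_eq_inv]
    have := eq_inv_of_mul_eq_one_left hk'
    rw [this, inv_inv]
  rw [h7]
  exact inv_mem (pow_mem h5 m)

/-- **Quasisimplicity.** -/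
theorem quasisimple [Finite Y] [Fintype W] [Nonempty I] (C : Cls cs h p T n X R Z z) (hp : p.Prime) (hodd : p ≠ 2)
    (hG : G1 cs h X = ⊤) (hT : ∀ a ∈ T, ∀ b ∈ T, a * b = b * a)
    (hirr : ∀ J : Set I, J.Nonempty → J ≠ Set.univ → ∃ a ∈ J, ∃ b, b ∉ J ∧ M a b ≠ 2)
    (hR : ∀ x, IsRoot cs h x → ∃ r ∈ R, form cs h x r ≠ 0 ∧ x ≠ r ∧ x ≠ -r) : IsQuasisimple Y := by
  have hperf := perfect C hp hodd hG hR
  have : Fact p.Prime := ⟨hp⟩
  have hgen := rgd_gen_of_G1 C.rgd hG
  have hTs : Group.IsSolvable T := by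
    refine Group.isSolvable_of_comm ?_
    rintro ⟨a, ha⟩ ⟨b, hb⟩
    exact Subtype.ext (hT a ha b hb)
  have hB : Group.IsSolvable ↥(C.rgd.bnPair hgen).B := isSolvable_B C.rgd hTs
  refine ⟨⟨hperf⟩, ?_⟩
  obtain ⟨i⟩ := (inferInstance : Nonempty I)
  have hnt : Nontrivial (Y ⧸ Subgroup.center Y) := by
    rw [← not_subsingleton_iff_nontrivial]
    intro hsub
    have h1 := QuotientGroup.subgroup_eq_top_of_subsingleton (Subgroup.center Y) hsub
    rw [← commutator_eq_bot_iff_center_eq_top, hperf] at h1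
    apply Cfsg.Agent.Nodes.StdConn.X_ne_bot C (isRoot_sr cs h i)
    rw [eq_bot_iff]
    refine le_trans le_top ?_
    rw [← h1]
  refine ⟨fun H hH => ?_⟩
  have hn : (H.comap (QuotientGroup.mk' (Subgroup.center Y))).Normal := inferInstance
  rcases le_or_top (C.rgd.bnPair hgen) (C.rgd.bnPair_irreducible hgen hirr) hB hperf
    (H.comap (QuotientGroup.mk' (Subgroup.center Y))) with h1 | h1
  · left
    have h2 := le_center C.rgd hG (H := H.comap (QuotientGroup.mk' (Subgroup.center Y))) h1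
    rw [eq_bot_iff]
    intro q hq
    obtain ⟨g, rfl⟩ := QuotientGroup.mk'_surjective (Subgroup.center Y) q
    rw [Subgroup.mem_bot]
    exact (QuotientGroup.eq_one_iff g).2 (h2 hq)
  · right
    rw [eq_top_iff]
    intro q _
    obtain ⟨g, rfl⟩ := QuotientGroup.mk'_surjective (Subgroup.center Y) q
    have h2 : g ∈ H.comap (QuotientGroup.mk' (Subgroup.center Y)) := by rw [h1]; trivial
    exact h2

end Cfsg.Agent.OddHalf.NI3.K.QS

end

-- merged: Cfsg.Agent.OddHalf.NI3.K.Count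
section

/-!
# The order of the group generated by the root groups of a closed set of positive roots

* `card_sup_fut`, `card_sup` : `|Sup X S| = q ^ |S|` for a closed set `S` of positive roots, `|X x| = q`.
-/

set_option autoImplicit false
set_option linter.unusedSectionVars false
set_option linter.dupNamespace false

namespace Cfsg.Agent.OddHalf.NI3.K.Count

open CoxeterSystem Cfsg.Agent.ChevalleyStructure.CoxeterGeom Cfsg.Agent.Tits.Roots Cfsg.Agent.Tits.Core
  Cfsg.Agent.Tits.RootComb Cfsg.Agent.Nodes.Comb Cfsg.Agent.Nodes.Reps Cfsg.Agent.Nodes.BNOf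
  Cfsg.Agent.Nodes.BNOf.RGD Cfsg.Agent.Nodes.Unique

variable {I W Y : Type*} [Fintype I] [DecidableEq I] [Group W] [Group Y] {M : CoxeterMatrix I}
  {cs : CoxeterSystem M W} {A : I → I → ℤ} {h : IsCartan M A} {p : ℕ} {T : Subgroup Y} {n : I → Y}
  {X : (I → ℤ) → Subgroup Y}

variable (Rd : RGD cs h p T n X)

include Rd

theorem card_sup_fut [Finite W] (q : ℕ) (w : W) {S : Set (I → ℤ)} (hS : S ⊆ Fut cs h w) (hc : Closed cs h S)
    (hq : ∀ x ∈ S, Nat.card (X x) = q) : Nat.card ↥(Sup X S) = q ^ S.ncard := by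
  induction hn : (Fut cs h w).ncard generalizing w S with
  | zero =>
    have h1 := (Set.ncard_eq_zero (finite_fut w)).1 hn
    rw [h1, Set.subset_empty_iff] at hS
    subst hS
    have h2 : Sup X (∅ : Set (I → ℤ)) = ⊥ := by
      rw [eq_bot_iff]
      exact Sup_le fun z hz => absurd hz (Set.notMem_empty z)
    rw [h2, Subgroup.card_bot, Set.ncard_empty, pow_zero]
  | succ k ih =>
    have hne : (Fut cs h w).Nonempty := by
      rw [Set.nonempty_iff_ne_empty]
      intro h1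
      rw [h1, Set.ncard_empty] at hn
      omega
    obtain ⟨y, hy⟩ := hne
    obtain ⟨i, hi⟩ := exists_simple hy
    have hcard : (Fut cs h (w * cs.simple i)).ncard = k := by
      rw [fut_mul hi, Set.ncard_sdiff_singleton_of_mem (mem_fut hi), hn]
      rfl
    have hsub : S \ {rep cs h w (sr i)} ⊆ Fut cs h (w * cs.simple i) := by
      rw [fut_mul hi]
      exact Set.sdiff_subset_sdiff_left hS
    have key := ih (w * cs.simple i) hsub (closed_diff hi hS hc) (fun x hx => hq x hx.1) hcard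
    have hpos : S ⊆ Pos cs h := hS.trans (fut_subset_pos w)
    have hfin : S.Finite := (finite_fut w).subset hS
    by_cases hx : rep cs h w (sr i) ∈ S
    · have h1 : Nat.card ↥(Sup X S) =
          Nat.card (↥(X (rep cs h w (sr i))) × ↥(Sup X (S \ {rep cs h w (sr i)}))) := by
        symm
        refine Nat.card_congr (Equiv.ofBijective (fun ab => (⟨(ab.1 : Y) * ab.2,
          (mem_peel Rd hpos hc hx).2 ⟨_, ab.1.2, _, ab.2.2, rfl⟩⟩ : ↥(Sup X S))) ⟨?_, ?_⟩)
        · rintro ⟨a, b⟩ ⟨a', b'⟩ he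
          have h2 : (a : Y) * b = a' * b' := congrArg Subtype.val he
          have h3 : (a' : Y)⁻¹ * a = b' * (b : Y)⁻¹ := by
            have h4 : (a' : Y)⁻¹ * a = (a' : Y)⁻¹ * (a * b) * (b : Y)⁻¹ := by group
            rw [h4, h2]; group
          have h4 : (a' : Y)⁻¹ * a ∈ X (rep cs h w (sr i)) ⊓ Sup X (Fut cs h (w * cs.simple i)) := by
            refine Subgroup.mem_inf.2 ⟨mul_mem (inv_mem a'.2) a.2, ?_⟩
            rw [h3]
            exact mul_mem (Sup_mono hsub b'.2) (inv_mem (Sup_mono hsub b.2))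
          rw [tail_inf Rd, Subgroup.mem_bot] at h4
          have h5 : (b' : Y) = b := by
            rw [h4] at h3
            exact mul_inv_eq_one.1 h3.symm
          have h6 : (a : Y) = a' := (inv_mul_eq_one.1 h4).symm
          exact Prod.ext (Subtype.ext h6) (Subtype.ext h5.symm)
        · rintro ⟨g, hg⟩
          obtain ⟨a, ha, b, hb, e⟩ := (mem_peel Rd hpos hc hx).1 hg
          exact ⟨(⟨a, ha⟩, ⟨b, hb⟩), Subtype.ext e.symm⟩
      rw [h1, Nat.card_prod, hq _ hx, key, ← Set.ncard_sdiff_singleton_add_one hx hfin, pow_succ, mul_comm]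
    · rw [Set.sdiff_singleton_eq_self hx] at key
      exact key

theorem card_sup [Finite W] (q : ℕ) {S : Set (I → ℤ)} (hS : S ⊆ Pos cs h) (hc : Closed cs h S)
    (hq : ∀ x ∈ S, Nat.card (X x) = q) : Nat.card ↥(Sup X S) = q ^ S.ncard := by
  rw [← fut_one] at hS
  exact card_sup_fut Rd q 1 hS hc hq

end Cfsg.Agent.OddHalf.NI3.K.Count

end

-- merged: Cfsg.Agent.OddHalf.NI3.K.PerpN
section

/-!
# The group of the roots orthogonal to a root `θ` is a component of `C(z θ)` (NI over `F_3`, rows E6, E7, E8 of F13)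
-/

set_option autoImplicit false
set_option linter.unusedSectionVars false
set_option linter.dupNamespace false

namespace Cfsg.Agent.OddHalf.NI3.K.PerpN

open CoxeterSystem Cfsg.Agent.ChevalleyStructure.CoxeterGeom Cfsg.Agent.Tits.Roots Cfsg.Agent.Tits.Core
  Cfsg.Agent.Tits.RootComb Cfsg.Agent.Nodes.Comb Cfsg.Agent.Nodes.Reps Cfsg.Agent.Nodes.BNOf
  Cfsg.Agent.Nodes.RGDLib Cfsg.Agent.Nodes.Chart Cfsg.Agent.Nodes.Bruhat Cfsg.Agent.Nodes.Coroot
  Cfsg.Agent.Nodes.Perp Cfsg.Agent.Nodes.StabComb Cfsg.Agent.Nodes.SubComb Cfsg.Agent.Nodes.Block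
open Cfsg.Agent.Cit.TypeDet (cm cm_symm cm_iff_le_centralizer cm_mono)

variable {I W Y : Type*} [Fintype I] [DecidableEq I] [Group W] [Fintype W] [Group Y] {M : CoxeterMatrix I}
  {cs : CoxeterSystem M W} {A : I → I → ℤ} {h : IsCartan M A} {p : ℕ} {T : Subgroup Y} {n : I → Y}
  {X : (I → ℤ) → Subgroup Y} {R : Set (I → ℤ)} {Z : (I → ℤ) → Subgroup Y} {z : (I → ℤ) → Y}

/-! ### Roots -/

section Roots

theorem form_sr_ne {a b : I} (hab : b ≠ a) (hM : M a b ≠ 2) : form cs h (sr a) (sr b) ≠ 0 := by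
  intro h0
  have h3 := two_form cs h b (sr a)
  rw [h0, mul_zero] at h3
  have h4 : pairing A b (sr a) = A b a := Cfsg.Agent.Nodes.OrthRoot.pairing_sr b a
  rw [h4] at h3
  have h5 := form_pos cs h (isRoot_sr cs h b).ne_zero
  have h6 : A b a ≠ 0 := by
    rcases h.rel b a hab with h7 | h7 | h7 | h7
    · exact absurd h7.1 (by rw [M.symmetric]; exact hM)
    all_goals omega
  rcases mul_eq_zero.1 h3.symm with h7 | h7
  · exact h6 h7
  · omega

/-- A root of `J` is not orthogonal to some simple root of `J`, different from it up to sign. -/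
theorem exists_neigh {J : Set I} (hJ : ∀ k ∈ J, ∃ j ∈ J, j ≠ k ∧ M k j ≠ 2) {x : I → ℤ}
    (hx : x ∈ RootsJ cs h J) : ∃ j ∈ J, form cs h x (sr j) ≠ 0 ∧ x ≠ sr j ∧ x ≠ -sr j := by
  obtain ⟨k, hk, hk0⟩ : ∃ k ∈ J, form cs h x (sr k) ≠ 0 := by
    by_contra h0
    push Not at h0
    have h2 := form_pos cs h hx.1.ne_zero
    rw [form_eq_sum] at h2
    refine h2.ne' (Finset.sum_eq_zero fun k _ => ?_)
    by_cases hk : k ∈ J
    · rw [h0 k hk, mul_zero]
    · rw [hx.2 k hk, zero_mul]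
  by_cases h1 : x = sr k ∨ x = -sr k
  · obtain ⟨j, hj, hjk, hM⟩ := hJ k hk
    have h2 := form_sr_ne (cs := cs) (h := h) hjk hM
    have hne : (sr k : I → ℤ) ≠ sr j := by
      intro e
      have := congrFun e k
      rw [sr_self, sr_ne hjk.symm] at this
      exact one_ne_zero this
    have hne' : (sr k : I → ℤ) ≠ -sr j := by
      intro e
      have := congrFun e k
      rw [sr_self, Pi.neg_apply, sr_ne hjk.symm, neg_zero] at this
      exact one_ne_zero this
    refine ⟨j, hj, ?_, ?_, ?_⟩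
    · rcases h1 with rfl | rfl
      · exact h2
      · rw [form_neg_left]
        exact neg_ne_zero.2 h2
    · rcases h1 with rfl | rfl
      · exact hne
      · exact fun e => hne' (by rw [← e, neg_neg])
    · rcases h1 with rfl | rfl
      · exact hne'
      · exact fun e => hne (neg_injective e)
  · push Not at h1
    exact ⟨k, hk, hk0, h1.1, h1.2⟩

/-- Simply laced and irreducible: the roots are conjugate. -/
theorem trans_of (h3 : ∀ i j, i ≠ j → M i j ≠ 2 → M i j = 3)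
    (hirr : ∀ J : Set I, J.Nonempty → J ≠ Set.univ → ∃ a ∈ J, ∃ b, b ∉ J ∧ M a b ≠ 2) {r s : I → ℤ}
    (hr : IsRoot cs h r) (hs : IsRoot cs h s) : ∃ w, s = rep cs h w r := by
  have key : ∀ i j : I, ∃ w, rep cs h w (sr i) = sr j := by
    intro i j
    by_contra hcon
    obtain ⟨a, ⟨w, ha⟩, b, hb, hab⟩ := hirr {k | ∃ w, rep cs h w (sr i) = sr k}
      ⟨i, 1, by rw [map_one, Module.End.one_apply]⟩ (by
        intro h0
        have : j ∈ {k | ∃ w, rep cs h w (sr i) = sr k} := by rw [h0]; trivial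
        exact hcon this)
    apply hb
    have hne : a ≠ b := by
      rintro rfl
      exact hb ⟨w, ha⟩
    have hM := h3 a b hne hab
    have h4 := h.rel a b hne
    have h5 : A a b = -1 ∧ A b a = -1 := by
      rcases h4 with h7 | h7 | h7 | h7 <;> omega
    refine ⟨cs.simple a * cs.simple b * w, ?_⟩
    have e1 : pairing A b (sr a) = A b a := Cfsg.Agent.Nodes.OrthRoot.pairing_sr b a
    have e2 : pairing A a (sr b) = A a b := Cfsg.Agent.Nodes.OrthRoot.pairing_sr a b
    have e3 : rep cs h (cs.simple b) (sr a) = sr a + sr b := by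
      rw [rep_simple_eq, e1, h5.2]
      module
    rw [rep_mul_apply, ha, rep_mul_apply, e3, map_add, rep_simple_sr, rep_simple_eq, e2, h5.1]
    module
  obtain ⟨v, i, rfl⟩ := hr
  obtain ⟨u, j, rfl⟩ := hs
  obtain ⟨w, hw⟩ := key i j
  refine ⟨u * w * v⁻¹, ?_⟩
  rw [rep_mul_apply, rep_inv_apply, rep_mul_apply, hw]

end Roots

/-! ### The normaliser -/

section Norm

variable (C : Cls cs h p T n X R Z z) (hp : p.Prime) (hodd : p ≠ 2)

include C hp hodd

theorem eq_one_of_comm {θ x : I → ℤ} (hθ : θ ∈ R) (hx : IsRoot cs h x) (h1 : x ≠ θ) (h2 : x ≠ -θ)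
    (h0 : form cs h x θ ≠ 0) {a : Y} (ha : a ∈ X x) (hc : a * z θ = z θ * a) : a = 1 := by
  have h3 := C.z_inv θ hθ x hx h1 h2 h0 a ha
  rw [← hc, mul_assoc, C.z_sq θ hθ, mul_one] at h3
  exact Cfsg.Agent.Nodes.ZRel.eq_one_of_inv C hp hodd hx ha h3

/-- `z r` determines `± r`. -/
theorem eq_of_z_eq {θ s : I → ℤ} (hθ : θ ∈ R) (hs : s ∈ R)
    (hP : form cs h s θ = 0 → ∃ x, IsRoot cs h x ∧ form cs h x θ = 0 ∧ form cs h x s ≠ 0 ∧ x ≠ s ∧ x ≠ -s)
    (e : z s = z θ) : s = θ ∨ s = -θ := by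
  by_contra hcon
  push Not at hcon
  by_cases h0 : form cs h s θ = 0
  · obtain ⟨x, hx, h1, h2, h3, h4⟩ := hP h0
    exact Cfsg.Agent.Nodes.ZRel.z_ne C hp hodd hs hθ hx h1 h2 h3 h4 e
  · apply C.ne_bot s hs
    rw [Subgroup.eq_bot_iff_forall]
    intro a ha
    refine eq_one_of_comm C hp hodd hθ (C.root s hs) hcon.1 hcon.2 h0 (C.le s hs ha) ?_
    rw [← e]
    exact (C.z_cent s hs a ha).symm

theorem rep_theta {θ : I → ℤ} (hθ : θ ∈ R)
    (hP : ∀ s ∈ R, form cs h s θ = 0 → ∃ x, IsRoot cs h x ∧ form cs h x θ = 0 ∧ form cs h x s ≠ 0 ∧ x ≠ s ∧ x ≠ -s)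
    {w : W} {k : Y} (hk : Rp cs C.rgd.nsys w k) (hkz : k * z θ = z θ * k) :
    rep cs h w θ = θ ∨ rep cs h w θ = -θ := by
  refine eq_of_z_eq C hp hodd hθ (C.act θ hθ w) (hP _ (C.act θ hθ w)) ?_
  rw [← Cfsg.Agent.Nodes.ClsNorm.conj_z C hk hθ, hkz, mul_inv_cancel_right]

/-- **`⟨X x : x ⟂ θ⟩` is normalised by `C(z θ)`.** -/
theorem centralizer_le_normalizer_DD (hG : G1 cs h X = ⊤) {θ : I → ℤ} (hθ : θ ∈ R) (hXZ : ∀ r ∈ R, X r = Z r)
    (hP : ∀ s ∈ R, form cs h s θ = 0 → ∃ x, IsRoot cs h x ∧ form cs h x θ = 0 ∧ form cs h x s ≠ 0 ∧ x ≠ s ∧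
      x ≠ -s) :
    Subgroup.centralizer ({z θ} : Set Y) ≤ Subgroup.normalizer (DD cs h X {θ} : Set Y) := by
  have hfin : Finite W := inferInstance
  intro g hg
  have hT : ({z θ} : Set Y) ⊆ T := by rintro _ rfl; exact C.z_torus θ hθ
  have hg' : g ∈ GG cs h T X := by
    have : G1 cs h X ≤ GG cs h T X := le_sup_right
    exact this (by rw [hG]; trivial)
  obtain ⟨u, hu, w, k, hk, hkz, v, hv, rfl⟩ := Cfsg.Agent.Nodes.NormalForm.mem_centralizer C.rgd hT hg' hg
  have hsup : RGD.Sup (fun x => X x ⊓ Subgroup.centralizer ({z θ} : Set Y)) (RGD.Pos cs h) ≤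
      Subgroup.normalizer (DD cs h X {θ} : Set Y) := by
    refine RGD.Sup_le fun x hx => ?_
    intro a ha
    obtain ⟨ha1, ha2⟩ := Subgroup.mem_inf.1 ha
    have hc : a * z θ = z θ * a := (Subgroup.mem_centralizer_iff.1 ha2 _ rfl).symm
    have hcen : ∀ r ∈ R, r = θ ∨ r = -θ → X r ≤ Subgroup.normalizer (DD cs h X {θ} : Set Y) := by
      intro r hr hrθ
      have h1 : X r ≤ KK Z θ := by
        rw [hXZ r hr]
        rcases hrθ with rfl | rfl
        · exact le_sup_left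
        · exact le_sup_right
      refine h1.trans ?_
      refine le_trans ?_ (Cfsg.Agent.Nodes.ClsNorm.centralizer_le_normalizer' _)
      exact cm_iff_le_centralizer.1 (cm_symm (DD_cm C hθ rfl))
    by_cases h1 : x = θ
    · exact hcen x (h1 ▸ hθ) (Or.inl h1) ha1
    by_cases h2 : x = -θ
    · exact hcen x (by rw [h2]; exact Cfsg.Agent.Nodes.Perp.neg_mem C hθ) (Or.inr h2) ha1
    by_cases h3 : form cs h x θ = 0
    · have h4 : x ∈ Perp cs h {θ} := ⟨hx.1, by rintro _ rfl; exact h3⟩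
      exact Subgroup.le_normalizer (X_le_DD h4 ha1)
    · rw [eq_one_of_comm C hp hodd hθ hx.1 h1 h2 h3 ha1 hc]
      exact one_mem _
  have hmap : ∀ {w : W} {k : Y}, Rp cs C.rgd.nsys w k → k * z θ = z θ * k →
      cj k (DD cs h X {θ}) ≤ DD cs h X {θ} := by
    intro w k hk hkz
    refine cj_Sup_le C.rgd hk (fun x hx => hx.1) fun x hx => ⟨hx.1.act w, ?_⟩
    intro f hf
    rw [Set.mem_singleton_iff.1 hf]
    have h1 : form cs h (rep cs h w x) (rep cs h w θ) = 0 := by rw [form_rep]; exact hx.2 θ rfl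
    rcases rep_theta C hp hodd hθ hP hk hkz with h2 | h2
    · rwa [h2] at h1
    · rwa [h2, form_neg_right, neg_eq_zero] at h1
  have hkz' : k * z θ = z θ * k := (Subgroup.mem_centralizer_iff.1 hkz _ rfl).symm
  have hk2 : k ∈ Subgroup.normalizer (DD cs h X {θ} : Set Y) := by
    rw [mem_normalizer_iff_cj]
    apply le_antisymm (hmap hk hkz')
    have h1 := hmap hk.inv (by
      rw [inv_mul_eq_iff_eq_mul, ← mul_assoc, hkz', mul_inv_cancel_right])
    have h2 := cj_mono k h1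
    rwa [cj_cj_inv] at h2
  exact mul_mem (mul_mem (hsup hu) hk2) (hsup hv)

end Norm

/-! ### The Levi subgroup -/

section Levi

variable {J W' : Type*} [Fintype J] [DecidableEq J] [Group W'] [Fintype W'] {M' : CoxeterMatrix J}
  {A' : J → J → ℤ} {cs' : CoxeterSystem M' W'} {h' : IsCartan M' A'}

/-- `G1` of the restriction to the group generated by the root groups. -/
theorem G1_restrict (cs : CoxeterSystem M W) (h : IsCartan M A) (X : (I → ℤ) → Subgroup Y) :
    G1 cs h (fun x => (X x).subgroupOf (G1 cs h X)) = ⊤ := by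
  have h1 : (G1 cs h X).subgroupOf (G1 cs h X) =
      ⨆ x : {x | IsRoot cs h x}, (X x.1).subgroupOf (G1 cs h X) :=
    iSup_subgroupOf (K := G1 cs h X) (fun x : {x | IsRoot cs h x} => X x.1) fun x => X_le_G1 x.2
  rw [Subgroup.subgroupOf_self] at h1
  exact h1.symm

/-- Classical data on the group generated by the root groups. -/
theorem exists_cls_G1 (C : Cls cs h p T n X R Z z) (hT : ∀ a ∈ T, ∀ b ∈ T, a * b = b * a) :
    ∃ (T' : Subgroup ↥(G1 cs h X)) (n' : I → ↥(G1 cs h X)) (z' : (I → ℤ) → ↥(G1 cs h X)),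
      Cls cs h p T' n' (fun x => (X x).subgroupOf (G1 cs h X)) R (fun x => (Z x).subgroupOf (G1 cs h X)) z' ∧
      (∀ r ∈ R, (z' r : Y) = z r) ∧ (∀ a ∈ T', ∀ b ∈ T', a * b = b * a) := by
  classical
  choose t ht hL using fun i => exists_mul_mem C.rgd i
  have C1 := cls_shrink C ht hL
  have hz : ∀ r ∈ R, z r ∈ G1 cs h X := fun r hr => (C1.z_torus r hr).2
  refine ⟨_, _, fun c => if h0 : z c ∈ G1 cs h X then ⟨z c, h0⟩ else 1,
    Cfsg.Agent.Nodes.ClsMap.cls_restrict C1 (G1 cs h X) (fun x hx => X_le_G1 hx) hL _ ?_, ?_, ?_⟩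
  · intro r hr
    simp only [dif_pos (hz r hr)]
  · intro r hr
    simp only [dif_pos (hz r hr)]
  · intro a ha b hb
    exact Subtype.ext (hT _ (Subgroup.mem_inf.1 (Subgroup.mem_subgroupOf.1 ha)).1 _
      (Subgroup.mem_inf.1 (Subgroup.mem_subgroupOf.1 hb)).1)

/-- `DD {θ}` for dominant `θ` is the group of a standard Levi subsystem. -/
theorem DD_eq (X : (I → ℤ) → Subgroup Y) {θ : I → ℤ} (hθ : Dom A θ) (f : J ↪ I) (hS : orth cs h θ = Set.range f)
    (hM : ∀ i j, M (f i) (f j) = M' i j) (hA : ∀ i j, A (f i) (f j) = A' i j) :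
    DD cs h X {θ} = G1 cs' h' (fun c => X (iota (fun j => sr (f j)) c)) := by
  unfold DD
  rw [Perp_singleton hθ, hS]
  refine Cfsg.Agent.Nodes.ClsSub.Sup_eq_of_forall (fun x hx => ?_) (fun c hc => ?_)
  · obtain ⟨c, hc, rfl⟩ := (Cfsg.Agent.Nodes.LeviStd.mem_RootsJ_range_iff' f hM hA cs' h').1 hx
    exact ⟨c, hc, rfl⟩
  · exact ⟨_, (Cfsg.Agent.Nodes.LeviStd.mem_RootsJ_range_iff' f hM hA cs' h').2 ⟨c, hc, rfl⟩, rfl⟩

end Levi

/-! ### The theorem -/

open Subgroup (center centralizer) in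
open Cfsg.Agent.OddHalf.NI (CompIn) in
open Cfsg.Agent.Nodes.Sub in
/-- **`HasYF` from the highest root.** -/
theorem hasYF_of [Finite Y] (C : Cls cs h p T n X R Z z) (hp : p.Prime) (hodd : p ≠ 2) (hG : G1 cs h X = ⊤)
    (hT : ∀ a ∈ T, ∀ b ∈ T, a * b = b * a) (hall : ∀ x, IsRoot cs h x → x ∈ R) (hXZ : ∀ r ∈ R, X r = Z r)
    {F : Type} [Field F] [Fintype F] (hc : Fintype.card F = 3) (hcard : ∀ x, IsRoot cs h x → Nat.card (X x) = 3)
    (sl : ∀ r ∈ R, Nonempty (Matrix.SpecialLinearGroup (Fin 2) F ≃* ↥(Z r ⊔ Z (-r))))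
    {θ : I → ℤ} (hθ : θ ∈ R) (hdom : Dom A θ) {m : ℕ} (hm : 0 < m) (f : Fin m ↪ I)
    (hS : orth cs h θ = Set.range f) (h3 : ∀ i j, i ≠ j → M i j ≠ 2 → M i j = 3)
    (hirrI : ∀ K : Set I, K.Nonempty → K ≠ Set.univ → ∃ a ∈ K, ∃ b, b ∉ K ∧ M a b ≠ 2)
    (hirr : ∀ K : Set (Fin m), K.Nonempty → K ≠ Set.univ → ∃ a ∈ K, ∃ b, b ∉ K ∧ M (f a) (f b) ≠ 2)
    (hnbI : ∀ k : I, ∃ j, j ≠ k ∧ M k j ≠ 2) (hnb : ∀ k : Fin m, ∃ j, j ≠ k ∧ M (f k) (f j) ≠ 2)
    (a b c : Fin m) (hab : A (f a) (f b) = 0) (hac : A (f a) (f c) = 0) (hbc : A (f b) (f c) = 0)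
    {u : I → ℤ} (hu : IsRoot cs h u) (h2 : (2 : ℤ) • u = θ + -sr (f a) + -sr (f b) + -sr (f c))
    (hcount : 14 ≤ {x | IsRoot cs h x ∧ 0 ≤ x ∧ form cs h x θ = 0}.ncard) : HasYF Y := by
  have ho : Odd (Fintype.card F) := by rw [hc]; decide
  have hθr := C.root θ hθ
  have tr : ∀ r ∈ R, ∀ s ∈ R, ∃ w, s = rep cs h w r := fun r hr s hs =>
    trans_of h3 hirrI (C.root r hr) (C.root s hs)
  -- the involutions are not trivial
  have hzθ : z θ ≠ 1 := by
    obtain ⟨j, -, h4, h5, h6⟩ := exists_neigh (cs := cs) (h := h) (J := Set.univ)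
      (fun k _ => by obtain ⟨j, h4, h5⟩ := hnbI k; exact ⟨j, trivial, h4, h5⟩)
      (x := θ) ⟨hθr, fun k hk => absurd trivial hk⟩
    intro h7
    obtain ⟨w, hw, hw1⟩ : ∃ w ∈ X (sr j), w ≠ 1 := by
      by_contra hcon
      push Not at hcon
      exact Cfsg.Agent.Nodes.StdConn.X_ne_bot C (isRoot_sr cs h j) ((Subgroup.eq_bot_iff_forall _).2 hcon)
    apply hw1
    refine eq_one_of_comm C hp hodd hθ (isRoot_sr cs h j) h5.symm (fun e => h6 (by rw [e, neg_neg]))
      (by rw [form_comm]; exact h4) hw ?_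
    rw [h7, one_mul, mul_one]
  have hz1 : ∀ r ∈ R, z r ≠ 1 := fun r hr => NI.ClsFrame.z_ne C tr hθ hzθ hr
  have huniq := NI.ClsFrame.uniq C ho sl hz1
  have hlen := NI.ClsFrame.len C tr
  -- orthogonality
  have horth : ∀ k : Fin m, form cs h θ (sr (f k)) = 0 := by
    intro k
    have h4 : f k ∈ orth cs h θ := by rw [hS]; exact ⟨k, rfl⟩
    exact form_eq_zero_of_pairing (mem_orth.1 h4)
  have hsr : ∀ k : Fin m, sr (f k) ∈ R := fun k => hall _ (isRoot_sr cs h (f k))
  have hf0 : ∀ j k : Fin m, A (f j) (f k) = 0 → form cs h (sr (f j)) (sr (f k)) = 0 := by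
    intro j k h0
    rw [form_comm]
    refine form_eq_zero_of_pairing ?_
    rw [Cfsg.Agent.Nodes.OrthRoot.pairing_sr]
    exact h0
  have hprod : z θ * z (sr (f a)) * z (sr (f b)) * z (sr (f c)) = 1 := by
    have h4 := Cfsg.Agent.Nodes.ZRel.prod4 C hp hodd huniq hlen (hall u hu) hθ
      (Cfsg.Agent.Nodes.Perp.neg_mem C (hsr a)) (Cfsg.Agent.Nodes.Perp.neg_mem C (hsr b))
      (Cfsg.Agent.Nodes.Perp.neg_mem C (hsr c))
      (by rw [form_neg_right, horth, neg_zero]) (by rw [form_neg_right, horth, neg_zero])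
      (by rw [form_neg_right, horth, neg_zero])
      (by rw [form_neg_right, form_neg_left, hf0 a b hab, neg_zero, neg_zero])
      (by rw [form_neg_right, form_neg_left, hf0 a c hac, neg_zero, neg_zero])
      (by rw [form_neg_right, form_neg_left, hf0 b c hbc, neg_zero, neg_zero]) h2
    rwa [C.z_neg _ (hsr a), C.z_neg _ (hsr b), C.z_neg _ (hsr c)] at h4
  have hzeq : z θ = (z (sr (f a)) * z (sr (f b)) * z (sr (f c)))⁻¹ := by
    rw [eq_inv_iff_mul_eq_one, ← mul_assoc, ← mul_assoc]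
    exact hprod
  -- the Levi subgroup
  have hfin : Finite (leviMatrix f M).Group := (levi_subSys (cs := cs) (h := h) f).finite
    (leviMatrix f M).toCoxeterSystem (levi_isCartan f h)
  let _ : Fintype (leviMatrix f M).Group := Fintype.ofFinite _
  have C0 := Cfsg.Agent.Nodes.ClsSub.cls_levi C f (leviMatrix f M).toCoxeterSystem
  obtain ⟨T', n', z', C2, hz2, hT2⟩ := exists_cls_G1 C0 hT
  have hG2 := G1_restrict (leviMatrix f M).toCoxeterSystem (levi_isCartan f h)
    (fun c => X (iota (fun j => sr (f j)) c))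
  have hDD := DD_eq (cs := cs) (cs' := (leviMatrix f M).toCoxeterSystem) (h' := levi_isCartan f h) X hdom f hS
    (fun _ _ => rfl) (fun _ _ => rfl)
  have : Nonempty (Fin m) := ⟨⟨0, hm⟩⟩
  have hR' : ∀ x, IsRoot (leviMatrix f M).toCoxeterSystem (levi_isCartan f h) x →
      x ∈ {c | IsRoot (leviMatrix f M).toCoxeterSystem (levi_isCartan f h) c ∧
        iota (fun j => sr (f j)) c ∈ R} := fun x hx =>
    ⟨hx, hall _ ((levi_subSys (cs := cs) (h := h) f).isRoot_iota hx)⟩
  have hq : IsQuasisimple ↥(G1 (leviMatrix f M).toCoxeterSystem (levi_isCartan f h)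
      (fun c => X (iota (fun j => sr (f j)) c))) := by
    refine QS.quasisimple C2 hp hodd hG2 hT2 hirr fun x hx => ?_
    obtain ⟨j, -, h4, h5, h6⟩ := exists_neigh (cs := (leviMatrix f M).toCoxeterSystem)
      (h := levi_isCartan f h) (J := Set.univ)
      (fun k _ => by obtain ⟨j, h4, h5⟩ := hnb k; exact ⟨j, trivial, h4, h5⟩)
      (x := x) ⟨hx, fun k hk => absurd trivial hk⟩
    exact ⟨sr j, hR' _ (isRoot_sr _ _ j), h4, h5, h6⟩
  -- the condition for `eq_of_z_eq`
  have hP : ∀ s ∈ R, form cs h s θ = 0 → ∃ x, IsRoot cs h x ∧ form cs h x θ = 0 ∧ form cs h x s ≠ 0 ∧ x ≠ s ∧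
      x ≠ -s := by
    intro s hs h0
    have h4 : s ∈ RootsJ cs h (orth cs h θ) := by
      rw [← Perp_singleton hdom]
      exact ⟨C.root s hs, by intro g hg; rw [Set.mem_singleton_iff.1 hg]; exact h0⟩
    obtain ⟨j, hj, h5, h6, h7⟩ := exists_neigh (cs := cs) (h := h) (J := orth cs h θ) (by
      rw [hS]
      rintro _ ⟨k, rfl⟩
      obtain ⟨j, h8, h9⟩ := hnb k
      exact ⟨f j, ⟨j, rfl⟩, fun e => h8 (f.injective e), h9⟩) h4
    rw [hS] at hj
    obtain ⟨k, rfl⟩ := hj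
    exact ⟨sr (f k), isRoot_sr cs h _, by rw [form_comm]; exact horth k, by rw [form_comm]; exact h5, h6.symm,
      fun e => h7 (by rw [e, neg_neg])⟩
  have hnorm := centralizer_le_normalizer_DD C hp hodd hG hθ hXZ hP
  have hle : DD cs h X {θ} ≤ centralizer ({z θ} : Set Y) := by
    refine RGD.Sup_le fun x hx w hw => ?_
    rw [Subgroup.mem_centralizer_iff]
    rintro _ rfl
    exact (Cfsg.Agent.Nodes.ZRel.z_cent_of_orth C hθ hx.1 (hx.2 θ rfl) hw).symm
  rw [hDD] at hnorm hle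
  have hzL : ∀ k : Fin m, (z' (sr k) : Y) = z (sr (f k)) := by
    intro k
    rw [hz2 (sr k) (hR' _ (isRoot_sr _ _ k)), iota_sr]
  have hy : z θ ∈ G1 (leviMatrix f M).toCoxeterSystem (levi_isCartan f h)
      (fun c => X (iota (fun j => sr (f j)) c)) := by
    rw [hzeq, ← hzL a, ← hzL b, ← hzL c]
    exact inv_mem (mul_mem (mul_mem (z' (sr a)).2 (z' (sr b)).2) (z' (sr c)).2)
  refine ⟨z θ, _, hy, ?_, ⟨hle, ?_, ?_⟩, Or.inr (Or.inl ⟨?_, ?_⟩)⟩
  · refine orderOf_eq_prime ?_ hzθ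
    rw [pow_two]
    exact C.z_sq θ hθ
  · exact ((Subgroup.normal_subgroupOf_iff_le_normalizer hle).2 hnorm).isSubnormal
  · exact Cfsg.Agent.SignalizersComponents.Components.isQuasisimple_of_mulEquiv (Subgroup.subgroupOfEquivOfLe hle).symm hq
  · have hSub : {x | IsRoot cs h x ∧ 0 ≤ x ∧ form cs h x θ = 0} ⊆ RGD.Pos cs h := fun x hx => ⟨hx.1, hx.2.1⟩
    have hclosed : Cfsg.Agent.Nodes.Unique.Closed cs h {x | IsRoot cs h x ∧ 0 ≤ x ∧ form cs h x θ = 0} := by
      intro x hx y hy w hw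
      refine ⟨hw.1, RGD.nonneg_of_btwn hx.2.1 hy.2.1 hw, ?_⟩
      have h4 : w ∈ Perp cs h {θ} := Perp.btwn
        ⟨hx.1, by intro g hg; rw [Set.mem_singleton_iff.1 hg]; exact hx.2.2⟩
        ⟨hy.1, by intro g hg; rw [Set.mem_singleton_iff.1 hg]; exact hy.2.2⟩ hw
      exact h4.2 θ rfl
    have h4 := Count.card_sup C.rgd 3 hSub hclosed fun x hx => hcard x hx.1
    have h5 : RGD.Sup X {x | IsRoot cs h x ∧ 0 ≤ x ∧ form cs h x θ = 0} ≤ DD cs h X {θ} :=
      RGD.Sup_mono fun x hx => ⟨hx.1, by intro g hg; rw [Set.mem_singleton_iff.1 hg]; exact hx.2.2⟩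
    rw [hDD] at h5
    have h6 := Subgroup.card_dvd_of_le h5
    rw [h4] at h6
    exact (pow_dvd_pow 3 hcount).trans h6
  · have tr2 : ∀ r ∈ {c | IsRoot (leviMatrix f M).toCoxeterSystem (levi_isCartan f h) c ∧
        iota (fun j => sr (f j)) c ∈ R}, ∀ s ∈ {c | IsRoot (leviMatrix f M).toCoxeterSystem (levi_isCartan f h) c ∧
        iota (fun j => sr (f j)) c ∈ R}, ∃ w, s = rep (leviMatrix f M).toCoxeterSystem (levi_isCartan f h) w r :=
      fun r hr s hs => trans_of (fun i j hij => h3 (f i) (f j) (fun e => hij (f.injective e))) hirr hr.1 hs.1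
    refine Fr.frame_of_cls C2 tr2 hp hodd hG2 ho hc ?_ ?_ ?_
    · intro r hr
      obtain ⟨φ⟩ := sl _ hr.2
      have hZle : ∀ s ∈ {c | IsRoot (leviMatrix f M).toCoxeterSystem (levi_isCartan f h) c ∧
        iota (fun j => sr (f j)) c ∈ R}, Z (iota (fun j => sr (f j)) s) ≤
          G1 (leviMatrix f M).toCoxeterSystem (levi_isCartan f h) (fun c => X (iota (fun j => sr (f j)) c)) :=
        fun s hs => (C.le _ hs.2).trans (X_le_G1 (cs := (leviMatrix f M).toCoxeterSystem)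
          (h := levi_isCartan f h) (X := fun c => X (iota (fun j => sr (f j)) c)) hs.1)
      have hneg : -r ∈ {c | IsRoot (leviMatrix f M).toCoxeterSystem (levi_isCartan f h) c ∧
        iota (fun j => sr (f j)) c ∈ R} := Cfsg.Agent.Nodes.Perp.neg_mem C2 hr
      have e1 : Z (iota (fun j => sr (f j)) r) ⊔ Z (-iota (fun j => sr (f j)) r) =
          Z (iota (fun j => sr (f j)) r) ⊔ Z (iota (fun j => sr (f j)) (-r)) := by rw [map_neg]
      have e2 := Subgroup.subgroupOf_sup (hZle r hr) (hZle (-r) hneg)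
      have e3 := Subgroup.subgroupOfEquivOfLe (sup_le (hZle r hr) (hZle (-r) hneg))
      exact ⟨(φ.trans (MulEquiv.subgroupCongr e1)).trans (e3.symm.trans (MulEquiv.subgroupCongr e2))⟩
    · have h4 : (⟨z θ, hy⟩ : ↥(G1 (leviMatrix f M).toCoxeterSystem (levi_isCartan f h)
          (fun c => X (iota (fun j => sr (f j)) c)))) = (z' (sr a) * z' (sr b) * z' (sr c))⁻¹ := by
        apply Subtype.ext
        push_cast
        rw [hzL a, hzL b, hzL c]
        exact hzeq
      rw [h4]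
      exact inv_mem (mul_mem (mul_mem (Subgroup.subset_closure ⟨_, hR' _ (isRoot_sr _ _ a), rfl⟩)
        (Subgroup.subset_closure ⟨_, hR' _ (isRoot_sr _ _ b), rfl⟩))
        (Subgroup.subset_closure ⟨_, hR' _ (isRoot_sr _ _ c), rfl⟩))
    · intro h4
      exact hzθ (congrArg Subtype.val h4)

end Cfsg.Agent.OddHalf.NI3.K.PerpN

end

-- merged: Cfsg.Agent.OddHalf.NI3.K.En
section

/-!
# `HasYF` for `E6(3)`, `E7(3)`, `E8(3)` (NI over `F_3`, (F1_3))

`y = z θ`, `θ` the highest root, `M = ⟨X x : x ⟂ θ⟩` of type `A5`, `D6`, `E7`.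
-/

set_option autoImplicit false
set_option linter.unusedSectionVars false
set_option linter.dupNamespace false

namespace Cfsg.Agent.OddHalf.NI3.K.En

open CoxeterSystem Cfsg.Agent.ChevalleyStructure.CoxeterGeom Cfsg.Agent.Tits.Roots Cfsg.Agent.Tits.Core
  Cfsg.Agent.Tits.RootComb Cfsg.Agent.Nodes.Comb Cfsg.Agent.Nodes.Reps Cfsg.Agent.Nodes.BNOf
  Cfsg.Agent.Nodes.RGDLib Cfsg.Agent.Nodes.Chart Cfsg.Agent.Nodes.Coroot Cfsg.Agent.Nodes.StabComb
  Cfsg.Agent.Nodes.KindBase Cfsg.Agent.Nodes.KindChev Cfsg.Agent.Nodes.ChevCls Cfsg.Agent.Nodes.ChevChart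
open Cfsg.Lie Cfsg.Agent.ChevalleyStructure Cfsg.Agent.ChevalleyStructure.Elts
  Cfsg.Agent.ChevalleyStructure.NPerm Cfsg.Agent.ChevalleyStructure.CoxeterGeomTypes Cfsg.Agent.Nodes.RGDChev
  Cfsg.Agent.KFacts.RgdChevCoord Cfsg.Agent.OddHalf.NI.ModelChev

universe u

/-- Root groups have the order of the field. -/
theorem card_XX {D : ChevalleyDatum} {l : ℕ} {M : CoxeterMatrix (Fin l)} (hp : IsType D l M) {K : Type u} [Field K]
    [Fintype K] (cs : CoxeterSystem M M.Group) {x : Fin l → ℤ} (hx : IsRoot cs hp.isCartan x) :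
    Nat.card (XX D l K x) = Fintype.card K := by
  obtain ⟨r, hr, rfl⟩ := (isRoot_iff hp cs x).1 hx
  rw [← Nat.card_eq_fintype_card]
  symm
  refine Nat.card_congr (Equiv.ofBijective
    (fun a => (⟨xc hp (vec D l r) a, (mem_XX hp hr _).2 ⟨a, rfl⟩⟩ : ↥(XX D l K (vec D l r)))) ⟨?_, ?_⟩)
  · intro a b hab
    exact xc_inj hp hr (congrArg Subtype.val hab)
  · rintro ⟨y, hy⟩
    obtain ⟨a, rfl⟩ := (mem_XX hp hr y).1 hy
    exact ⟨a, rfl⟩

section General

variable {D : ChevalleyDatum} {l : ℕ} {M : CoxeterMatrix (Fin l)} (hp : IsType D l M)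
  {f : ℕ} {fr cf : Fin f → Fin l → ℤ} {idx : Fin f → ℕ} (T : KD D l f 2 (fun _ => 1) fr cf idx) (k₀ : Fin f)

include hp T in
/-- Counting the positive roots orthogonal to the highest root. -/
theorem count_of [Fintype M.Group] (cs : CoxeterSystem M M.Group) {N : ℕ}
    (hN : N ≤ ((Finset.range D.nroots).filter fun r => (∀ i, 0 ≤ vec D l r i) ∧
      ∑ i, vec D l r i * cf k₀ i = 0).card) :
    N ≤ {x | IsRoot cs hp.isCartan x ∧ 0 ≤ x ∧ form cs hp.isCartan x (fr k₀) = 0}.ncard := by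
  classical
  have hr₀ : IsRoot cs hp.isCartan (fr k₀) := T.isRoot hp k₀
  have hinj : Set.InjOn (fun r => vec D l r) ((Finset.range D.nroots).filter fun r => (∀ i, 0 ≤ vec D l r i) ∧
      ∑ i, vec D l r i * cf k₀ i = 0 : Finset ℕ) := by
    intro r hr s hs h
    rw [Finset.mem_coe, Finset.mem_filter, Finset.mem_range] at hr hs
    exact vec_inj hp hr.1 hs.1 h
  rw [← Finset.card_image_of_injOn hinj] at hN
  refine hN.trans ?_
  rw [← Set.ncard_coe_finset]
  refine Set.ncard_le_ncard ?_ ((Cfsg.Agent.Nodes.BNOf.RGD.finite_roots (cs := cs) (h := hp.isCartan)).subset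
    fun x hx => hx.1)
  intro x hx
  rw [Finset.mem_coe, Finset.mem_image] at hx
  obtain ⟨r, hr, rfl⟩ := hx
  rw [Finset.mem_filter, Finset.mem_range] at hr
  refine ⟨(isRoot_iff hp cs _).2 ⟨r, hr.1, rfl⟩, hr.2.1, ?_⟩
  rw [← cpr_zero_iff cs hp.isCartan _ hr₀, T.cpr hp]
  exact hr.2.2

include hp T in
/-- **`HasYF` of a simply laced Chevalley group over the field with three elements.** -/
theorem hasYF_group {K : Type} [Field K] [Fintype K] (hc : Fintype.card K = 3)
    (hL : ∀ s < D.nroots, (∀ i, vec D l s i = fr k₀ i) ∨ (∀ i, vec D l s i = -fr k₀ i) ∨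
      |∑ i, vec D l s i * cf k₀ i| ≤ 1) (hZ : Subgroup.center ↥(D.group K) = ⊥)
    {i₀ j₀ : Fin l} (hij : cartanOf D l i₀ j₀ = -1) (hdom : Dom (cartanOf D l) (fr k₀)) {m : ℕ} (hm : 0 < m)
    (e : Fin m → Fin l) (he : Function.Injective e)
    (he' : ∀ i, pairing (cartanOf D l) i (fr k₀) = 0 ↔ ∃ a, e a = i)
    (h3 : ∀ i j, i ≠ j → M i j ≠ 2 → M i j = 3)
    (hirrI : ∀ J : Finset (Fin l), J = ∅ ∨ J = Finset.univ ∨ ∃ a ∈ J, ∃ b, b ∉ J ∧ M a b ≠ 2)
    (hirr : ∀ J : Finset (Fin m), J = ∅ ∨ J = Finset.univ ∨ ∃ a ∈ J, ∃ b, b ∉ J ∧ M (e a) (e b) ≠ 2)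
    (hnbI : ∀ k : Fin l, ∃ j, j ≠ k ∧ M k j ≠ 2) (hnb : ∀ k : Fin m, ∃ j, j ≠ k ∧ M (e k) (e j) ≠ 2)
    (a b c : Fin m) (hab : cartanOf D l (e a) (e b) = 0) (hac : cartanOf D l (e a) (e c) = 0)
    (hbc : cartanOf D l (e b) (e c) = 0)
    (hu : ∃ r < D.nroots, ∀ i, 2 * vec D l r i = fr k₀ i + -(if i = e a then 1 else 0) + -(if i = e b then 1 else 0) +
      -(if i = e c then 1 else 0))
    (hcount : 14 ≤ ((Finset.range D.nroots).filter fun r => (∀ i, 0 ≤ vec D l r i) ∧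
      ∑ i, vec D l r i * cf k₀ i = 0).card) : HasYF ↥(D.group K) := by
  have : Fact (Nat.Prime 3) := ⟨Nat.prime_three⟩
  have hchar : CharP K 3 := by
    obtain ⟨q, hq⟩ := CharP.exists K
    have hqp : q.Prime := (CharP.char_is_prime_or_zero K q).resolve_right (CharP.char_ne_zero_of_finite K q)
    obtain ⟨n, -, hn⟩ := FiniteField.card K q
    rw [hc] at hn
    have h1 : q ∣ 3 := by rw [hn]; exact dvd_pow_self q n.2.ne'
    rw [(Nat.prime_dvd_prime_iff_eq hqp Nat.prime_three).1 h1] at hq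
    exact hq
  have hfin : Finite M.Group := finite_W hp M.toCoxeterSystem
  let _ : Fintype M.Group := Fintype.ofFinite _
  have C := Nodes.ChevCls.cls hp (K := K) M.toCoxeterSystem 3 T k₀ (fun _ => ⟨by norm_num, by norm_num⟩) hL hZ
  have hall : ∀ x, IsRoot M.toCoxeterSystem hp.isCartan x →
      x ∈ RN M.toCoxeterSystem (h := hp.isCartan) 2 (fun _ => 1) := by
    intro x hx
    rw [RN_const T.hd]
    exact hx
  obtain ⟨r, hr, hur⟩ := hu
  refine PerpN.hasYF_of C Nat.prime_three (by decide) (G1_eq_top hp M.toCoxeterSystem) ?_ hall (fun _ _ => rfl) hc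
    ?_ (fun s hs => slEquiv hp (K := K) 3 T hij (by norm_num) hs) (T.mem hp k₀) hdom hm ⟨e, he⟩ (orth_eq e he') h3
    (irr_of hirrI) ?_ hnbI hnb a b c hab hac hbc (u := vec D l r)
    ((isRoot_iff hp M.toCoxeterSystem _).2 ⟨r, hr, rfl⟩) ?_ (count_of hp T k₀ _ hcount)
  · intro s hs t ht
    have := comm_TT hp (K := K) ⟨s, hs⟩ ⟨t, ht⟩
    exact congrArg Subtype.val this
  · intro x hx
    rw [card_XX hp M.toCoxeterSystem hx, hc]
  · exact irr_of (M := Cfsg.Agent.Nodes.Sub.leviMatrix ⟨e, he⟩ M) hirr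
  · funext i
    have h1 := hur i
    have hs : ∀ k : Fin l, (sr k : Fin l → ℤ) i = if i = k then 1 else 0 := by
      intro k
      by_cases h : i = k
      · rw [if_pos h, h, sr_self]
      · rw [if_neg h, sr_ne h]
    simp only [Pi.smul_apply, Pi.add_apply, Pi.neg_apply, smul_eq_mul, Function.Embedding.coeFn_mk, hs]
    exact h1

end General

/-! ### The types -/

variable {K : Type} [Field K] [Fintype K] (hc : Fintype.card K = 3)

include hc

set_option backward.isDefEq.respectTransparency false in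
/-- **`E6(3)`**: `M` of type `A5`. -/
theorem hasYF_E6 : HasYF ↥(chevE6.group K) :=
  hasYF_group Nodes.KindE.isType6 Nodes.KindE.kd6 0 hc long6 (center_of_mem (by simp)) (i₀ := 0) (j₀ := 2)
    (by decide +kernel) Nodes.KindE.dom_theta6 (m := 5) (by norm_num) Nodes.KindE.lev6 Nodes.KindE.lev6_injective
    (by intro i; rw [Nodes.KindE.pairing_theta6]; revert i; decide) (by decide +kernel) irr6 (by decide +kernel)
    (by decide +kernel) (by decide +kernel) 0 2 4 (by decide +kernel) (by decide +kernel) (by decide +kernel)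
    (by decide +kernel) (by decide +kernel)

set_option backward.isDefEq.respectTransparency false in
/-- **`E7(3)`**: `M` of type `D6`. -/
theorem hasYF_E7 : HasYF ↥(chevE7.group K) :=
  hasYF_group Nodes.KindE.isType7 Nodes.KindE.kd7 0 hc long7 (center_of_mem (by simp)) (i₀ := 0) (j₀ := 2)
    (by decide +kernel) Nodes.KindE.dom_theta7 (m := 6) (by norm_num) Nodes.KindE.lev7 Nodes.KindE.lev7_injective
    (by intro i; rw [Nodes.KindE.pairing_theta7]; revert i; decide) (by decide +kernel) irr7 (by decide +kernel)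
    (by decide +kernel) (by decide +kernel) 4 2 0 (by decide +kernel) (by decide +kernel) (by decide +kernel)
    (by decide +kernel) (by decide +kernel)

set_option backward.isDefEq.respectTransparency false in
/-- **`E8(3)`**: `M` of type `E7`. -/
theorem hasYF_E8 : HasYF ↥(chevE8.group K) :=
  hasYF_group Nodes.KindE.isType8 Nodes.KindE.kd8 0 hc long8 (center_of_mem (by simp)) (i₀ := 0) (j₀ := 2)
    (by decide +kernel) Nodes.KindE.dom_theta8 (m := 7) (by norm_num) Nodes.KindE.lev8 Nodes.KindE.lev8_injective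
    (by intro i; rw [Nodes.KindE.pairing_theta8]; revert i; decide) (by decide +kernel) irr8 (by decide +kernel)
    (by decide +kernel) (by decide +kernel) 1 4 6 (by decide +kernel) (by decide +kernel) (by decide +kernel)
    (by decide +kernel) (by decide +kernel)

/-! ### The rows -/

omit hc in
/-- **Row `E6(3)`.** -/
theorem row_E6 {X : Type*} [Group X] (h : LieOddFam.FE6 X 3) : HasYF X := by
  obtain ⟨F, _, _, hF, ⟨e⟩⟩ := h
  exact Congr.hasYF_congr e.symm (hasYF_E6 hF)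

omit hc in
/-- **Row `E7(3)`.** -/
theorem row_E7 {X : Type*} [Group X] (h : LieOddFam.FE7 X 3) : HasYF X := by
  obtain ⟨F, _, _, hF, ⟨e⟩⟩ := h
  exact Congr.hasYF_congr e.symm (hasYF_E7 hF)

omit hc in
/-- **Row `E8(3)`.** -/
theorem row_E8 {X : Type*} [Group X] (h : LieOddFam.FE8 X 3) : HasYF X := by
  obtain ⟨F, _, _, hF, ⟨e⟩⟩ := h
  exact Congr.hasYF_congr e.symm (hasYF_E8 hF)

end Cfsg.Agent.OddHalf.NI3.K.En

end

-- merged: Cfsg.Agent.OddHalf.NI3.K.SmallPlus
section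

/-!
# Even central involutions of the covers of `PΩ⁺₈(q)` (NI over `F_3`, F13 (R8); helper643)

`K` finite, perfect, `Z(K)` a 2-group, `q` odd, `K / Z(K) ≅ PΩ⁺₈(q)`: all `1 ≠ z ∈ Z(K)` are `Even8` (`even_plus`).
-/

set_option autoImplicit false
set_option linter.unusedSectionVars false

namespace Cfsg.Agent.OddHalf.NI3.K.SmallPlus

open QuadraticMap
open Matrix (SpecialLinearGroup)
open Cfsg.Agent.LieClassical Cfsg.Agent.LieClassical.OrthCore Cfsg.Agent.LieClassical.OrthTrans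
open Cfsg.Agent.LieClassical.OrthSimple Cfsg.Agent.LieClassical.OrthFinite Cfsg.Agent.LieClassical.OrthForms
open Cfsg.Agent.TitsThree Cfsg.Agent.TitsThree.Siegel Cfsg.Agent.TitsThree.SiegelGen
  Cfsg.Agent.TitsThree.WittFrame Cfsg.Agent.TitsThree.WittWeyl Cfsg.Agent.TitsThree.WBridge
  Cfsg.Agent.TitsThree.KSideO
open Cfsg.Agent.Nodes
open Cfsg.Agent.Nodes.RGDOrth
open Cfsg.Agent.OddHalf.LongSL.OrthPhi Cfsg.Agent.OddHalf.LongSL.Orth
open Cfsg.Agent.OddHalf.NI
open EvenSheet (OkT)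
open Subgroup (center)

universe u

theorem units_sq {K : Type*} [Field K] {x : Kˣ} (h : x ^ 2 = 1) : x = 1 ∨ x = -1 := by
  have h1 : ((x : K) - 1) * ((x : K) + 1) = 0 := by
    have h2 := congrArg (fun u : Kˣ => (u : K)) h
    simp only [Units.val_pow_eq_pow_val, Units.val_one] at h2
    linear_combination h2
  rcases mul_eq_zero.1 h1 with h1 | h1
  · left
    apply Units.ext
    rw [Units.val_one]
    linear_combination h1
  · right
    apply Units.ext
    rw [Units.val_neg, Units.val_one]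
    linear_combination h1

/-- the two root elements of a node -/
def pr (i : Fin (2 + 2)) (s : Bool) : (Fin (2 + 2) × Bool) × (Fin (2 + 2) × Bool) :=
  if s then ((i, true), TypeD.nx i) else (neg (TypeD.nx i), neg (i, true))

theorem dw_check : ∀ i j : Fin (2 + 2), i ≠ 1 → j ≠ 1 → i ≠ j → ∀ s s' : Bool,
    0 ≤ KindD.dw (n := 2) (pr i s).1 (pr j s').1 + KindD.dw (n := 2) (pr i s).1 (pr j s').2 +
      KindD.dw (n := 2) (pr i s).2 (pr j s').1 + KindD.dw (n := 2) (pr i s).2 (pr j s').2 ∧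
      (pr i s).1.1 ≠ (pr i s).2.1 ∧ (pr j s').1.1 ≠ (pr j s').2.1 := by
  decide

variable {F V : Type*} [Field F] [AddCommGroup V] [Module F V] {Q : QuadraticForm F V}
  (W : WFrame (PO Q) (2 + 2))

/-- the nodes `0`, `2`, `3` commute -/
theorem commute_nodes {i j : Fin (2 + 2)} (hi : i ≠ 1) (hj : j ≠ 1) (hij : i ≠ j)
    (a b : SpecialLinearGroup (Fin 2) F) : Commute (OmegaPlus.s W i a) (OmegaPlus.s W j b) := by
  have key := dw_check i j hi hj hij
  have hup : ∀ k (x : F), ((OmegaPlus.s W k (Mult.up x) : ↥(E Q)) : V ≃ₗ[F] V) =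
      (toFrame W).X (pr k true).1 (pr k true).2 x := fun k x => OmegaPlus.Phi_up W (TypeD.ok_nx k) x
  have hlo : ∀ k (x : F), ((OmegaPlus.s W k (Mult.lo x) : ↥(E Q)) : V ≃ₗ[F] V) =
      (toFrame W).X (pr k false).1 (pr k false).2 x := fun k x => OmegaPlus.Phi_lo W (TypeD.ok_nx k) x
  -- `s j b` commutes with root elements of the node `i`
  have step : ∀ (s : Bool) (x : F) (g : ↥(E Q)), (g : V ≃ₗ[F] V) = (toFrame W).X (pr i s).1 (pr i s).2 x →
      ∀ b, Commute g (OmegaPlus.s W j b) := by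
    intro s x g hg b
    have h1 : (Subgroup.centralizer ({g} : Set ↥(E Q))).comap (OmegaPlus.s W j) = ⊤ := by
      apply Mult.mem_of_up_lo
      · intro y
        rw [Subgroup.mem_comap, Subgroup.mem_centralizer_singleton_iff]
        apply Subtype.ext
        rw [Subgroup.coe_mul, Subgroup.coe_mul, hup, hg]
        obtain ⟨h2, h3, h4⟩ := key s true
        exact (OmegaPlus.comm_X_X W h3 h4 h2 x y).symm
      · intro y
        rw [Subgroup.mem_comap, Subgroup.mem_centralizer_singleton_iff]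
        apply Subtype.ext
        rw [Subgroup.coe_mul, Subgroup.coe_mul, hlo, hg]
        obtain ⟨h2, h3, h4⟩ := key s false
        exact (OmegaPlus.comm_X_X W h3 h4 h2 x y).symm
    have h2 : b ∈ (Subgroup.centralizer ({g} : Set ↥(E Q))).comap (OmegaPlus.s W j) := h1 ▸ Subgroup.mem_top b
    rw [Subgroup.mem_comap, Subgroup.mem_centralizer_singleton_iff] at h2
    exact Commute.symm h2
  have h1 : (Subgroup.centralizer ({OmegaPlus.s W j b} : Set ↥(E Q))).comap (OmegaPlus.s W i) = ⊤ := by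
    apply Mult.mem_of_up_lo
    · intro x
      rw [Subgroup.mem_comap, Subgroup.mem_centralizer_singleton_iff]
      exact step true x _ (hup i x) b
    · intro x
      rw [Subgroup.mem_comap, Subgroup.mem_centralizer_singleton_iff]
      exact step false x _ (hlo i x) b
  have h2 : a ∈ (Subgroup.centralizer ({OmegaPlus.s W j b} : Set ↥(E Q))).comap (OmegaPlus.s W i) :=
    h1 ▸ Subgroup.mem_top a
  rw [Subgroup.mem_comap, Subgroup.mem_centralizer_singleton_iff] at h2
  exact h2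

/-- central elements of the torus -/
theorem okP (hG : Good Q) {t : Fin (2 + 2) → Fˣ} (ht : OmegaPlus.th W t ∈ center (E Q)) :
    t ^ 2 = 1 ∧ t 1 = 1 := by
  refine ⟨OmegaPlus.k2 W hG even_two ht, ?_⟩
  obtain ⟨c, hc⟩ := scalar_of_center hG ht
  have h1 : ∀ z, ((OmegaPlus.chi z t : Fˣ) : F) = c := by
    intro z
    have h1 := OmegaPlus.th_apply W z t
    rw [hc] at h1
    have h2 : (c - ((OmegaPlus.chi z t : Fˣ) : F)) • (toFrame W).b z = 0 := by rw [sub_smul, h1, sub_self]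
    exact (sub_eq_zero.1 ((smul_eq_zero.1 h2).resolve_right (WittRGD.b_ne_zero _))).symm
  obtain ⟨c', rfl⟩ : ∃ c' : Fˣ, (c' : F) = c := ⟨OmegaPlus.chi (0, true) t, h1 _⟩
  have h2 : ∀ z, OmegaPlus.chi z t = c' := fun z => Units.ext (h1 z)
  have hc2 : c' ^ 2 = 1 := by
    have h1 := OmegaPlus.chi_false (0 : Fin (2 + 2)) t
    rw [h2, h2, eq_inv_iff_mul_eq_one] at h1
    rw [pow_two, h1]
  have h3 := OmegaPlus.prod_chi t (1 : Fin (2 + 2))
  rw [Finset.prod_congr rfl fun k _ => h2 (k, true), Finset.prod_const, Fin.card_Iic, if_pos (by decide)] at h3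
  rw [← h3]
  exact hc2

/-- the central parameters of the sheet -/
theorem ok_sheet (F : Type) [Field F] [Fintype F] {p : ℕ} [Fact p.Prime] [CharP F p] (hp2 : Odd p)
    (hn : 1 ≤ 2) (hG : Good (plusForm (2 + 2) F)) (t : ∀ i, ((OmegaPlusRow.sheet F hp2 hn).Fi i)ˣ)
    (ht : (OmegaPlusRow.sheet F hp2 hn).θ t ∈ center ↥(E (plusForm (2 + 2) F))) :
    OkT (OmegaPlusRow.sheet F hp2 hn) t := by
  have h0 : ∀ t : Fin (2 + 2) → Fˣ, OmegaPlus.th (RGDOrth.wplus (2 + 2) F) t ∈ center (E (plusForm (2 + 2) F)) →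
      ∃ J : Set (Fin (2 + 2)), (∀ i ∈ J, t i = -1) ∧ (∀ i ∉ J, t i = 1) ∧ ∀ i ∈ J, ∀ j ∈ J, i ≠ j → ∀ a b,
        Commute (OmegaPlus.s (RGDOrth.wplus (2 + 2) F) i a) (OmegaPlus.s (RGDOrth.wplus (2 + 2) F) j b) := by
    intro t ht
    obtain ⟨hsq, h1⟩ := okP (RGDOrth.wplus (2 + 2) F) hG ht
    have h2 : ∀ i : Fin (2 + 2), t i ≠ 1 → t i = -1 := fun i hi => (units_sq (congrFun hsq i)).resolve_left hi
    have h3 : ∀ i : Fin (2 + 2), t i ≠ 1 → i ≠ 1 := by
      rintro i hi rfl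
      exact hi h1
    refine ⟨{i | t i ≠ 1}, h2, fun i hi => not_not.1 hi, ?_⟩
    intro i hi j hj hij a b
    exact commute_nodes (RGDOrth.wplus (2 + 2) F) (h3 i hi) (h3 j hj) hij a b
  exact h0 t ht

/-- **Even involutions for `PΩ⁺₈(q)`.** -/
theorem even_plus (F : Type) [Field F] [Fintype F] (ho : Odd (Fintype.card F)) (N : Type u) [Group N] [Finite N]
    (hN : commutator N = ⊤) (hZ : IsPGroup 2 ↥(center N))
    (e : Nonempty (N ⧸ center N ≃* Cfsg.POmega F (Cfsg.quadFormPlus 4 F))) (z : N) (hz : z ∈ center N)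
    (hz1 : z ≠ 1) : Even8 z := by
  obtain ⟨p, hpc⟩ := CharP.exists F
  have hp : Fact p.Prime := ⟨CharP.char_is_prime F p⟩
  have hpo : Odd p := by
    rcases hp.out.eq_two_or_odd' with h | h
    · subst h
      exfalso
      obtain ⟨k, -, hk⟩ := FiniteField.card F 2
      rw [hk, Nat.odd_pow_iff k.ne_zero] at ho
      exact absurd ho (by decide)
    · exact h
  have hp2 : p ≠ 2 := by rintro rfl; exact absurd hpo (by decide)
  obtain ⟨e⟩ := e
  rw [← coe_plusForm] at e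
  have hG : Good (plusForm (2 + 2) F) := OmegaPlusRow.good_plus F (by omega)
  exact EvenSheet.even_POmega hG hp.out hp2 (OmegaPlusRow.sheet F hpo (n := 2) (by omega))
    (ok_sheet F hpo _ hG) hN hZ e hz hz1

end Cfsg.Agent.OddHalf.NI3.K.SmallPlus

end

-- merged: Cfsg.Agent.OddHalf.NI3.K.Small
section

/-!
# (F1_3c) with `M = K` (NI over `F_3`, F13 (R8); helper643)

`K` finite quasisimple, `Z(K) ≠ 1` a 2-group, `X = K / Z(K)` over the field with three elements: an even central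
involution `z ∈ Z(K)` exists, and `K` has `HasYF` with `y = z`, `M = K`, in the cases

* `row_psl` : `X = PSL_n(3)`, `n ≥ 4`;  `row_psp` : `X = PSp_{2m}(3)`, `m ≥ 2`;
* `row_u4` : `X = U₄(3)`, `|Z(K)| ≠ 2`;
* `row_odd` : `X = PΩ_{2m+1}(3)`, `m ≥ 3`;
* `row_minus` : `X = PΩ⁻_{2m+2}(3)`, `m ≥ 3` odd;
* `row_plus8` : `X = PΩ⁺₈(3)`;
* `small` : all groups of `Small3` with even multiplier.
-/

set_option autoImplicit false

namespace Cfsg.Agent.OddHalf.NI3.K.Small

open Subgroup Cfsg Cfsg.Agent.OddHalf.LieOddFam Cfsg.Agent.OddHalf.NI3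
open Cfsg.Agent.OddHalf.NI (Even8)

universe u

variable {K : Type u} [Group K] [Finite K] (hq : IsQuasisimple K) (h2 : IsPGroup 2 ↥(center K))

include hq h2

/-- `y ∈ Z(K)`, `M = K` -/
theorem hasYF_of_even (hr : Rk (K ⧸ center K) 3) (h : ∃ z ∈ center K, Even8 z) : HasYF K := by
  obtain ⟨z, hz, h8⟩ := h
  exact hasYF_of_block (MonoidHom.id K) (fun x => ⟨x, rfl⟩) (by rw [MonoidHom.ker_id]; exact bot_le)
    (MonoidHom.id K) hq hz h8 hr h2 (fun g _ a => ⟨g * a * g⁻¹, rfl⟩) (fun _ _ h => h)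

variable (hZ : center K ≠ ⊥)

include hZ

theorem exists_ne : ∃ z ∈ center K, z ≠ 1 := by
  obtain ⟨⟨z, hz⟩, hz1⟩ := (Subgroup.ne_bot_iff_exists_ne_one (H := center K)).1 hZ
  exact ⟨z, hz, fun h => hz1 (Subtype.ext h)⟩

theorem row_psl {F : Type} [Field F] [Fintype F] (hF : Fintype.card F = 3) {n : ℕ} (hn : 4 ≤ n)
    (e : Nonempty (K ⧸ center K ≃* Matrix.ProjectiveSpecialLinearGroup (Fin n) F)) : HasYF K := by
  have hr : Rk (K ⧸ center K) 3 := Or.inl ⟨F, _, _, n, hF, by omega, e⟩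
  obtain ⟨e⟩ := e
  rcases Nat.even_or_odd n with hn2 | hn2
  · obtain ⟨m, rfl⟩ : ∃ m, n = 2 * m := ⟨n / 2, by have := Nat.even_iff.1 hn2; omega⟩
    exact hasYF_of_even hq h2 hr (SmallLin.row_sl hF (by omega) hq h2 hZ e)
  · -- the centre of `SL_n(3)` is trivial
    exfalso
    have hS := Cfsg.Agent.S0248.result n (by omega : 3 ≤ n) (F := F)
    have hodd : Odd (Fintype.card F) := by rw [hF]; decide
    obtain ⟨φ, hs, hk⟩ := NI.CoverOf.exists_cover hq.1.commutator_eq_top h2 hS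
      (NI.ClosedSL.closed hodd (by omega)) e
    obtain ⟨z, hz, hz1⟩ := exists_ne hq h2 hZ
    obtain ⟨c, rfl⟩ := hs z
    have hc : c ∈ center (Matrix.SpecialLinearGroup (Fin n) F) := NI.LinEnd.mem_center_of_map φ hk hS hz
    obtain ⟨r, hr1, hr⟩ := Matrix.SpecialLinearGroup.mem_center_iff.mp hc
    rw [Fintype.card_fin] at hr1
    have hr0 : r ≠ 0 := by
      rintro rfl
      rw [zero_pow (by omega)] at hr1
      exact zero_ne_one hr1
    have hrr : r ^ 2 = 1 := by
      have := FiniteField.pow_card_sub_one_eq_one r hr0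
      rwa [hF] at this
    obtain ⟨k, hk'⟩ := hn2
    rw [hk', pow_succ, pow_mul, hrr, one_pow, one_mul] at hr1
    apply hz1
    have h3 : c = 1 := by
      apply Subtype.ext
      rw [Matrix.SpecialLinearGroup.coe_one, ← hr, hr1, map_one]
    rw [h3, map_one]

theorem row_psp {F : Type} [Field F] [Fintype F] (hF : Fintype.card F = 3) {m : ℕ} (hm : 2 ≤ m)
    (e : Nonempty (K ⧸ center K ≃* PSp m F)) : HasYF K := by
  have hr : Rk (K ⧸ center K) 3 := Or.inr (Or.inl ⟨F, _, _, m, hF, hm, e⟩)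
  obtain ⟨e⟩ := e
  exact hasYF_of_even hq h2 hr (SmallLin.row_sp (by rw [hF]; decide) hm hq h2 hZ e)

theorem row_u4 {F : Type} [Field F] [Fintype F] (hF : Fintype.card F = 9) (h4 : Nat.card ↥(center K) ≠ 2)
    (e : Nonempty (K ⧸ center K ≃* PSU 4 F 3)) : HasYF K := by
  have hr : Rk (K ⧸ center K) 3 := Or.inr (Or.inr (Or.inl ⟨F, _, _, 4, by rw [hF]; norm_num, by norm_num, e⟩))
  obtain ⟨e⟩ := e
  exact hasYF_of_even hq h2 hr (SmallLin.row_su4 hF hq h2 hZ h4 e)

theorem row_odd {F : Type} [Field F] [Fintype F] (hF : Fintype.card F = 3) {m : ℕ} (hm : 3 ≤ m)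
    (e : Nonempty (K ⧸ center K ≃* POmega F (quadFormOdd m F))) : HasYF K := by
  have hr : Rk (K ⧸ center K) 3 := Or.inr (Or.inr (Or.inr (Or.inl ⟨F, _, _, m, hF, hm, e⟩)))
  obtain ⟨z, hz, hz1⟩ := exists_ne hq h2 hZ
  exact hasYF_of_even hq h2 hr
    ⟨z, hz, SmallOrth.even_odd F m (by rw [hF]; decide) hm K hq.1.commutator_eq_top h2 e z hz hz1⟩

theorem row_plus8 {F : Type} [Field F] [Fintype F] (hF : Fintype.card F = 3)
    (e : Nonempty (K ⧸ center K ≃* POmega F (quadFormPlus 4 F))) : HasYF K := by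
  have hr : Rk (K ⧸ center K) 3 := Or.inr (Or.inr (Or.inr (Or.inr (Or.inl ⟨F, _, _, 4, hF, le_rfl, e⟩))))
  obtain ⟨z, hz, hz1⟩ := exists_ne hq h2 hZ
  exact hasYF_of_even hq h2 hr
    ⟨z, hz, SmallPlus.even_plus F (by rw [hF]; decide) K hq.1.commutator_eq_top h2 e z hz hz1⟩

theorem row_minus {F : Type} [Field F] [Fintype F] (hF : Fintype.card F = 3) {m : ℕ} (hm : 3 ≤ m) (hmo : Odd m)
    {b c : F} (hbc : ∀ z₁ z₂ : F, z₁ ^ 2 + b * z₁ * z₂ + c * z₂ ^ 2 = 0 → z₁ = 0 ∧ z₂ = 0)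
    (e : Nonempty (K ⧸ center K ≃* POmega F (quadFormMinus m F b c))) : HasYF K := by
  have hr : Rk (K ⧸ center K) 3 :=
    Or.inr (Or.inr (Or.inr (Or.inr (Or.inr (Or.inl ⟨F, _, _, m + 1, b, c, hF, by omega, hbc, e⟩)))))
  obtain ⟨z, hz, hz1⟩ := exists_ne hq h2 hZ
  exact hasYF_of_even hq h2 hr
    ⟨z, hz, SmallOrth.even_minus F m b c (by rw [hF]; decide) hm hmo hbc K hq.1.commutator_eq_top h2 e z hz hz1⟩

/-- **The covers of the small groups.** (`L₃(3)`, `U₃(3)`, `G₂(3)` are not in `Cov3`.) -/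
theorem small (hs : (∃ (F : Type) (_ : Field F) (_ : Fintype F), Fintype.card F = 3 ∧
      Nonempty (K ⧸ center K ≃* Matrix.ProjectiveSpecialLinearGroup (Fin 4) F)) ∨ XU43 (K ⧸ center K) ∨
    (∃ (F : Type) (_ : Field F) (_ : Fintype F), Fintype.card F = 3 ∧ Nonempty (K ⧸ center K ≃* PSp 2 F)) ∨
    (∃ (F : Type) (_ : Field F) (_ : Fintype F), Fintype.card F = 3 ∧
      Nonempty (K ⧸ center K ≃* POmega F (quadFormOdd 3 F))) ∨
    (∃ (F : Type) (_ : Field F) (_ : Fintype F), Fintype.card F = 3 ∧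
      Nonempty (K ⧸ center K ≃* POmega F (quadFormPlus 4 F))) ∨
    (∃ (F : Type) (_ : Field F) (_ : Fintype F) (b c : F), Fintype.card F = 3 ∧
      (∀ z₁ z₂ : F, z₁ ^ 2 + b * z₁ * z₂ + c * z₂ ^ 2 = 0 → z₁ = 0 ∧ z₂ = 0) ∧
      Nonempty (K ⧸ center K ≃* POmega F (quadFormMinus 3 F b c))))
    (h4 : ¬ (Nat.card ↥(center K) = 2 ∧ XU43 (K ⧸ center K))) : HasYF K := by
  rcases hs with ⟨F, _, _, hF, e⟩ | ⟨F, _, _, hF, e⟩ | ⟨F, _, _, hF, e⟩ | ⟨F, _, _, hF, e⟩ | ⟨F, _, _, hF, e⟩ |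
    ⟨F, _, _, b, c, hF, hbc, e⟩
  · exact row_psl hq h2 hZ hF le_rfl e
  · exact row_u4 hq h2 hZ hF (fun h => h4 ⟨h, F, _, _, hF, e⟩) e
  · exact row_psp hq h2 hZ hF le_rfl e
  · exact row_odd hq h2 hZ hF le_rfl e
  · exact row_plus8 hq h2 hZ hF e
  · exact row_minus hq h2 hZ hF le_rfl (by decide) hbc e

end Cfsg.Agent.OddHalf.NI3.K.Small

end

-- merged: Cfsg.Agent.OddHalf.NI3.K.FThirteen
section

/-!
# (F1_3) and (F1_3c): the assembly (NI over `F_3`, helper824)

* `f13c : F13c`: unconditional.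
* `f13_of`: `F13` from the rows `F₄(3)`, `²E₆(3)`, `³D₄(3)`.
-/

set_option autoImplicit false

namespace Cfsg.Agent.OddHalf.NI3.K

open Subgroup Cfsg Cfsg.Agent.OddHalf.LieOddFam Cfsg.Agent.GH.Cov.Lft
open Cfsg.Agent.OddHalf.NI (CompIn Even8 IsSL)

universe u

/-- the rows which are not of classical type and not `E_n` -/
def RowF4 : Prop := ∀ (K : Type u) [Group K] [Finite K], FF4 K 3 → HasYF K

/-- row `²E₆(3)` -/
def Row2E6 : Prop := ∀ (K : Type u) [Group K] [Finite K], F2E6 K 3 → HasYF K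

/-- row `³D₄(3)` -/
def Row3D4 : Prop := ∀ (K : Type u) [Group K] [Finite K], F3D4 K 3 → HasYF K

/-- **(F1_3) assembled** -/
theorem f13_of (h1 : RowF4.{u}) (h2 : Row2E6.{u}) (h3 : Row3D4.{u}) : F13.{u} := by
  intro K _ _ hs hK hS
  simp only [Small3, not_or] at hS
  obtain ⟨s1, s2, s3, s4, s5, s6, s7, s8, s9⟩ := hS
  rcases hK with h | h | h | h | h | h | h | h | h | h | h | h | h
  · exact SL.row_sl h s1 s3
  · exact Sp.row_sp h s5
  · exact SU.row_su h s2 s4
  · exact OrthY.row_odd h s7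
  · exact OrthY.row_plus h s8
  · exact OrthY.row_minus h s9
  · exact absurd h s6
  · exact h1 K h
  · exact En.row_E6 h
  · exact En.row_E7 h
  · exact En.row_E8 h
  · exact h2 K h
  · exact h3 K h

/-- `K → K / Z(K)` is a central extension by a 2-group -/
theorem cext_mk {K : Type u} [Group K] (h2 : IsPGroup 2 ↥(center K)) : CExt (QuotientGroup.mk' (center K)) := by
  refine ⟨QuotientGroup.mk'_surjective _, ?_, ?_⟩
  · intro c hc x
    have h1 : c ∈ center K := (QuotientGroup.eq_one_iff c).mp hc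
    exact ((mem_center_iff.mp h1) x).symm
  · intro c hc
    have h1 : c ∈ center K := (QuotientGroup.eq_one_iff c).mp hc
    obtain ⟨n, hn⟩ := h2 ⟨c, h1⟩
    exact ⟨n, congrArg Subtype.val hn⟩

/-- `HasYF (K / Z(K)) → HasY K` -/
theorem hasY_of_quot {K : Type u} [Group K] [Finite K] (h2 : IsPGroup 2 ↥(center K))
    (h : HasYF (K ⧸ center K)) : HasY K :=
  LiftY.hasY_of_lift Fr.frameFact3 (cext_mk h2) h

/-- **(F1_3c)** -/
theorem f13c : F13c.{u} := by
  intro K _ _ hq h2 hZ hC hU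
  rcases hC with ⟨F, _, _, n, hF, hn, e⟩ | ⟨F, _, _, n, hF, hn, e⟩ | h | h | h | h | h
  · exact (Small.row_psl hq h2 hZ hF hn e).hasY
  · rcases Nat.lt_or_ge n 5 with h5 | h5
    · obtain rfl : n = 4 := by omega
      exact (Small.row_u4 hq h2 hZ hF (fun h => hU ⟨h, F, _, _, hF, e⟩) e).hasY
    · obtain ⟨e⟩ := e
      exact hasY_of_quot h2 (SU.hasYF_of_equiv (by rw [hF]; norm_num) h5 e)
  · obtain ⟨F, _, _, m, hF, hm, e⟩ := h
    exact (Small.row_psp hq h2 hZ hF hm e).hasY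
  · obtain ⟨F, _, _, m, hF, hm, e⟩ := h
    exact (Small.row_odd hq h2 hZ hF hm e).hasY
  · by_cases hs : ∃ (F : Type) (_ : Field F) (_ : Fintype F), Fintype.card F = 3 ∧
        Nonempty (K ⧸ center K ≃* POmega F (quadFormPlus 4 F))
    · obtain ⟨F, _, _, hF, e⟩ := hs
      exact (Small.row_plus8 hq h2 hZ hF e).hasY
    · exact hasY_of_quot h2 (OrthY.row_plus h hs)
  · by_cases hs : ∃ (F : Type) (_ : Field F) (_ : Fintype F) (b c : F), Fintype.card F = 3 ∧
        (∀ z₁ z₂ : F, z₁ ^ 2 + b * z₁ * z₂ + c * z₂ ^ 2 = 0 → z₁ = 0 ∧ z₂ = 0) ∧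
        Nonempty (K ⧸ center K ≃* POmega F (quadFormMinus 3 F b c))
    · obtain ⟨F, _, _, b, c, hF, hbc, e⟩ := hs
      exact (Small.row_minus hq h2 hZ hF le_rfl (by decide) hbc e).hasY
    · exact hasY_of_quot h2 (OrthY.row_minus h hs)
  · exact hasY_of_quot h2 (En.row_E7 h)

end Cfsg.Agent.OddHalf.NI3.K

end
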