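import Mathlib
import Cfsg.Agent.Nodes.Unique
import Cfsg.Agent.Nodes.PosPair
import Cfsg.Agent.Nodes.Sub
import Cfsg.Agent.Nodes.NormalForm
import Cfsg.Agent.Nodes.Block
import Cfsg.Agent.OddHalf.NI3.K.FThirteen
import Cfsg.Agent.Nodes.CardSup
import Cfsg.Agent.Nodes.ClsSub
import Cfsg.Agent.OddHalf.NI.ModelChev
import Cfsg.Agent.Nodes.ChevChart
import Cfsg.Agent.Nodes.KindF
import Cfsg.Agent.OddHalf.NI3.K.Congr
import Cfsg.Agent.OddHalf.LongSL.Tw
import Cfsg.Agent.KFacts.TwESix.Facts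
import Cfsg.Agent.Nodes.ClsInv
import Cfsg.Agent.S1070
import Cfsg.Agent.KFacts.TwESix.Tor
import Cfsg.Agent.OddHalf.NI3.K.TwD4

-- merged: Cfsg.Agent.OddHalf.NI3.K.CentSub
section

/-!
# Root group data of the centralizer of a torus element (NI over `F_3`, rows F13; helper622)

* `cent_closed` : for a closed set `S` of positive roots the centralizer of `s ∈ T` in `Sup X S` is generated by the
  `C_{X x}(s)`, `x ∈ S`;
* `comm_cent` : commutators of elements of root groups centralised by `s ∈ T`;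
* `comm_of_cent`, `rgd_cent` : the root group datum of a subsystem `Φ'` such that `s` centralises `X x` for `x ∈ Φ'` and
  `C_{X x}(s) = 1` for the other roots;
* `cj_G1_of_cent` : the group of this subsystem is normal in `C(s)`.
-/

set_option autoImplicit false
set_option linter.unusedSectionVars false
set_option linter.dupNamespace false

namespace Cfsg.Agent.OddHalf.NI3.K.CentSub

open CoxeterSystem Cfsg.Agent.ChevalleyStructure.CoxeterGeom Cfsg.Agent.Tits.Roots Cfsg.Agent.Tits.Core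
  Cfsg.Agent.Tits.RootComb Cfsg.Agent.Nodes.Comb Cfsg.Agent.Nodes.Reps Cfsg.Agent.Nodes.BNOf
  Cfsg.Agent.Nodes.BNOf.RGD Cfsg.Agent.Nodes.Unique Cfsg.Agent.Nodes.RGDLib Cfsg.Agent.Nodes.SubComb
  Cfsg.Agent.Nodes.Sub Cfsg.Agent.Nodes.Bruhat
open scoped commutatorElement

section Closed

variable {I W Y : Type*} [Fintype I] [DecidableEq I] [Group W] [Group Y] {M : CoxeterMatrix I}
  {cs : CoxeterSystem M W} {A : I → I → ℤ} {h : IsCartan M A} {p : ℕ} {T : Subgroup Y} {n : I → Y}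
  {X : (I → ℤ) → Subgroup Y}

theorem mem_cen {s g : Y} : g ∈ Subgroup.centralizer ({s} : Set Y) ↔ s * g = g * s := by
  rw [Subgroup.mem_centralizer_iff]
  simp

theorem cent_fut [Finite W] (Rd : RGD cs h p T n X) {s : Y} (hs : s ∈ T) (w : W) {S : Set (I → ℤ)}
    (hS : S ⊆ Fut cs h w) (hc : Closed cs h S) {g : Y} (hg : g ∈ Sup X S) (hgs : s * g = g * s) :
    g ∈ Sup (fun x => X x ⊓ Subgroup.centralizer ({s} : Set Y)) S := by
  induction hn : (Fut cs h w).ncard generalizing w S g with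
  | zero =>
    have h1 := (Set.ncard_eq_zero (finite_fut w)).1 hn
    rw [h1, Set.subset_empty_iff] at hS
    subst hS
    have h2 : Sup X (∅ : Set (I → ℤ)) = ⊥ := by
      rw [eq_bot_iff]
      refine Sup_le fun z hz => ?_
      simp at hz
    rw [h2, Subgroup.mem_bot] at hg
    rw [hg]
    exact one_mem _
  | succ k ih =>
    have hne : (Fut cs h w).Nonempty := by
      rw [Set.nonempty_iff_ne_empty]
      intro h1
      rw [h1, Set.ncard_empty] at hn
      omega
    obtain ⟨y, hy⟩ := hne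
    obtain ⟨i, hi⟩ := exists_simple hy
    set x := rep cs h w (sr i) with hxdef
    have hcard : (Fut cs h (w * cs.simple i)).ncard = k := by
      rw [fut_mul hi, Set.ncard_sdiff_singleton_of_mem (mem_fut hi), hn]
      rfl
    have hsub : S \ {x} ⊆ Fut cs h (w * cs.simple i) := by
      rw [fut_mul hi]
      exact Set.sdiff_subset_sdiff_left hS
    have hcl := closed_diff hi hS hc
    by_cases hx : x ∈ S
    · obtain ⟨a, ha, b, hb, e⟩ := (mem_peel Rd (hS.trans (fut_subset_pos w)) hc hx).1 hg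
      have hxr : IsRoot cs h x := ⟨w, i, rfl⟩
      have h1 : s * a * s⁻¹ ∈ X x := by
        rw [← Rd.tor x hxr s hs]
        exact conj_mem_cj.2 ha
      have h2 : s * b * s⁻¹ ∈ Sup X (S \ {x}) :=
        (Subgroup.mem_normalizer_iff.1 (Rd.T_le_normalizer (S := S \ {x}) (fun z hz => (hS hz.1).1) hs) b).1 hb
      have h3 : a⁻¹ * (s * a * s⁻¹) = b * (s * b * s⁻¹)⁻¹ := by
        have h4 : s * a * s⁻¹ * (s * b * s⁻¹) = a * b := by
          have : s * a * s⁻¹ * (s * b * s⁻¹) = s * (a * b) * s⁻¹ := by group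
          rw [this, ← e, hgs]; group
        rw [eq_mul_inv_iff_mul_eq, mul_assoc, h4]; group
      have h4 : a⁻¹ * (s * a * s⁻¹) = 1 := by
        have h5 : a⁻¹ * (s * a * s⁻¹) ∈ X x ⊓ Sup X (Fut cs h (w * cs.simple i)) := by
          refine Subgroup.mem_inf.2 ⟨mul_mem (inv_mem ha) h1, ?_⟩
          rw [h3]
          exact Sup_mono hsub (mul_mem hb (inv_mem h2))
        rwa [hxdef, tail_inf Rd, Subgroup.mem_bot] at h5
      have ha' : s * a = a * s := by
        rw [inv_mul_eq_one] at h4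
        conv_rhs => rw [h4]
        group
      have hb' : s * b = b * s := by
        rw [h4] at h3
        have h5 := (mul_inv_eq_one.1 h3.symm)
        conv_rhs => rw [h5]
        group
      rw [e]
      refine mul_mem ?_ ?_
      · exact le_Sup (X := fun x => X x ⊓ Subgroup.centralizer ({s} : Set Y)) hx
          (Subgroup.mem_inf.2 ⟨ha, mem_cen.2 ha'⟩)
      · exact Sup_mono Set.sdiff_subset (ih (w * cs.simple i) hsub hcl hb hb' hcard)
    · have h1 : S \ {x} = S := Set.sdiff_singleton_eq_self hx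
      rw [h1] at hsub
      exact ih (w * cs.simple i) hsub hc hg hgs hcard

/-- **The centralizer of `s ∈ T` in `Sup X S`**, `S` a closed set of positive roots. -/
theorem cent_closed [Finite W] (Rd : RGD cs h p T n X) {s : Y} (hs : s ∈ T) {S : Set (I → ℤ)}
    (hS : S ⊆ Pos cs h) (hc : Closed cs h S) {g : Y} (hg : g ∈ Sup X S) (hgs : s * g = g * s) :
    g ∈ Sup (fun x => X x ⊓ Subgroup.centralizer ({s} : Set Y)) S := by
  rw [← fut_one] at hS
  exact cent_fut Rd hs 1 hS hc hg hgs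

theorem closed_btwn (x y : I → ℤ) : Closed cs h {z | Btwn cs h x y z} := by
  rintro u ⟨-, m₁, a₁, b₁, hm₁, ha₁, hb₁, e₁⟩ v ⟨-, m₂, a₂, b₂, hm₂, ha₂, hb₂, e₂⟩ z ⟨hz, m, a, b, hm, ha, hb, e⟩
  refine ⟨hz, m * m₁ * m₂, a * m₂ * a₁ + b * m₁ * a₂, a * m₂ * b₁ + b * m₁ * b₂, by positivity, by positivity,
    by positivity, ?_⟩
  have e3 : (m * m₁ * m₂) • z = (a * m₂) • (m₁ • u) + (b * m₁) • (m₂ • v) := by
    calc (m * m₁ * m₂) • z = (m₁ * m₂) • (m • z) := by rw [smul_smul]; congr 1; ring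
      _ = (a * m₂) • (m₁ • u) + (b * m₁) • (m₂ • v) := by
        rw [e, smul_add, smul_smul, smul_smul, smul_smul, smul_smul]
        congr 2 <;> ring
  rw [e3, e₁, e₂, smul_add, smul_add, smul_smul, smul_smul, smul_smul, smul_smul, add_smul, add_smul]
  abel

/-- **Commutators of elements of root groups centralised by `s ∈ T`.** -/
theorem comm_cent [Finite W] (Rd : RGD cs h p T n X) {s : Y} (hs : s ∈ T) {x y : I → ℤ} (hx : IsRoot cs h x)
    (hy : IsRoot cs h y) (hxy : x ≠ y) (hxy' : x ≠ -y) {a b : Y} (ha : a ∈ X x) (hb : b ∈ X y)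
    (has : s * a = a * s) (hbs : s * b = b * s) :
    ⁅a, b⁆ ∈ Sup (fun x => X x ⊓ Subgroup.centralizer ({s} : Set Y)) {z | Btwn cs h x y z} := by
  obtain ⟨w, hwx, hwy⟩ := Nodes.PosPair.exists_pos_pair cs h hx hy hxy'
  obtain ⟨g, hg⟩ := exists_rp cs Rd.nsys w
  have h1 := Rd.comm x y hx hy hxy hxy' a ha b hb
  have hsT : g * s * g⁻¹ ∈ T := (Subgroup.mem_normalizer_iff.1 hg.mem_normalizer s).1 hs
  -- the conjugate
  have h2 : g * ⁅a, b⁆ * g⁻¹ ∈ Sup X {z | Btwn cs h (rep cs h w x) (rep cs h w y) z} := by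
    have h3 : cj g (btw cs h X x y) ≤ Sup X {z | Btwn cs h (rep cs h w x) (rep cs h w y) z} := by
      unfold Nodes.Reps.btw
      rw [cj_iSup]
      refine iSup_le ?_
      rintro ⟨z, hz⟩
      rw [Rd.conj_rp hg hz.1]
      exact le_Sup (S := {z | Btwn cs h (rep cs h w x) (rep cs h w y) z}) (hz.act w)
    exact h3 (conj_mem_cj.2 h1)
  have h3 : g * s * g⁻¹ * (g * ⁅a, b⁆ * g⁻¹) = g * ⁅a, b⁆ * g⁻¹ * (g * s * g⁻¹) := by
    have h4 : s * ⁅a, b⁆ = ⁅a, b⁆ * s := by
      have h5 : ⁅a, b⁆ ∈ Subgroup.centralizer ({s} : Set Y) := by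
        have ha' := mem_cen.2 has
        have hb' := mem_cen.2 hbs
        rw [commutatorElement_def]
        exact mul_mem (mul_mem (mul_mem ha' hb') (inv_mem ha')) (inv_mem hb')
      exact mem_cen.1 h5
    calc g * s * g⁻¹ * (g * ⁅a, b⁆ * g⁻¹) = g * (s * ⁅a, b⁆) * g⁻¹ := by group
      _ = g * ⁅a, b⁆ * g⁻¹ * (g * s * g⁻¹) := by rw [h4]; group
  have h4 := cent_closed Rd hsT (S := {z | Btwn cs h (rep cs h w x) (rep cs h w y) z})
    (fun z hz => ⟨hz.1, nonneg_of_btwn hwx hwy hz⟩) (closed_btwn _ _) h2 h3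
  -- back
  have h5 : cj g⁻¹ (Sup (fun x => X x ⊓ Subgroup.centralizer ({g * s * g⁻¹} : Set Y))
      {z | Btwn cs h (rep cs h w x) (rep cs h w y) z}) ≤
      Sup (fun x => X x ⊓ Subgroup.centralizer ({s} : Set Y)) {z | Btwn cs h x y z} := by
    rw [cj_Sup]
    refine iSup_le ?_
    rintro ⟨z, hz⟩ u hu
    rw [mem_cj, inv_inv, Subgroup.mem_inf, mem_cen] at hu
    have hz' : Btwn cs h x y (rep cs h w⁻¹ z) := by
      have h6 := hz.act w⁻¹
      rwa [rep_inv_apply, rep_inv_apply] at h6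
    refine le_Sup (X := fun x => X x ⊓ Subgroup.centralizer ({s} : Set Y)) (S := {z | Btwn cs h x y z}) hz' ?_
    refine Subgroup.mem_inf.2 ⟨?_, mem_cen.2 ?_⟩
    · have h7 := Rd.conj_mem' hg hz.1 hu.1
      have e : g⁻¹ * (g * u * g⁻¹) * g = u := by group
      rwa [e] at h7
    · have h7 := hu.2
      have e1 : g * s * g⁻¹ * (g * u * g⁻¹) = g * (s * u) * g⁻¹ := by group
      have e2 : g * u * g⁻¹ * (g * s * g⁻¹) = g * (u * s) * g⁻¹ := by group
      rw [e1, e2] at h7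
      exact mul_left_cancel (mul_right_cancel h7)
  have h6 := h5 (conj_mem_cj.2 h4)
  have e : g⁻¹ * (g * ⁅a, b⁆ * g⁻¹) * g⁻¹⁻¹ = ⁅a, b⁆ := by group
  rwa [e] at h6

end Closed

section Sub

variable {I W J W' Y : Type*} [Fintype I] [DecidableEq I] [Group W] {M : CoxeterMatrix I}
  {cs : CoxeterSystem M W} {A : I → I → ℤ} {h : IsCartan M A}
  [Fintype J] [DecidableEq J] [Group W'] {M' : CoxeterMatrix J} {cs' : CoxeterSystem M' W'} {A' : J → J → ℤ}
  {h' : IsCartan M' A'} [Group Y] {p : ℕ} {T : Subgroup Y} {n : I → Y} {X : (I → ℤ) → Subgroup Y}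
  {β : J → I → ℤ} {w : J → W} {i : J → I}

/-- The commutator relations of the subsystem of the roots `x` with `X x ≤ C(s)`. -/
theorem comm_of_cent [Finite W] (Rd : RGD cs h p T n X) (S : SubSys cs h A' β w i) {s : Y} (hs : s ∈ T)
    (h1 : ∀ c, IsRoot cs' h' c → X (iota β c) ≤ Subgroup.centralizer ({s} : Set Y))
    (h2 : ∀ x, IsRoot cs h x → (∃ c, IsRoot cs' h' c ∧ x = iota β c) ∨
      X x ⊓ Subgroup.centralizer ({s} : Set Y) = ⊥) :
    ∀ c d, IsRoot cs' h' c → IsRoot cs' h' d → c ≠ d → c ≠ -d → ∀ a ∈ X (iota β c),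
      ∀ b ∈ X (iota β d), ⁅a, b⁆ ∈ btw cs' h' (fun e => X (iota β e)) c d := by
  intro c d hc hd hcd hcd' a ha b hb
  have h3 := comm_cent Rd hs (S.isRoot_iota hc) (S.isRoot_iota hd) (fun h0 => hcd (S.iota_injective h0))
    (fun h0 => hcd' (S.iota_injective (by rw [h0, map_neg]))) ha hb (mem_cen.1 (h1 c hc ha)) (mem_cen.1 (h1 d hd hb))
  refine (?_ : Sup _ _ ≤ _) h3
  refine Sup_le fun z hz => ?_
  rcases h2 z hz.1 with ⟨e, he, rfl⟩ | h4
  · refine inf_le_left.trans ?_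
    obtain ⟨-, m, x, y, hm, hx, hy, e'⟩ := hz
    have e2 : m • e = x • c + y • d := S.iota_injective (by rw [map_smul, e', map_add, map_smul, map_smul])
    exact le_iSup (fun e : {e : J → ℤ // Btwn cs' h' c d e} => X (iota β e.1)) ⟨e, he, m, x, y, hm, hx, hy, e2⟩
  · show X z ⊓ Subgroup.centralizer ({s} : Set Y) ≤ _
    rw [h4]
    exact bot_le

/-- **The group of the subsystem is normal in `C(s)`.** -/
theorem cj_G1_of_cent [Finite W] (Rd : RGD cs h p T n X) (S : SubSys cs h A' β w i) {s : Y} (hs : s ∈ T)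
    (h1 : ∀ c, IsRoot cs' h' c → X (iota β c) ≤ Subgroup.centralizer ({s} : Set Y))
    (h2 : ∀ x, IsRoot cs h x → (∃ c, IsRoot cs' h' c ∧ x = iota β c) ∨
      X x ⊓ Subgroup.centralizer ({s} : Set Y) = ⊥) {g : Y} (hg : g ∈ GG cs h T X)
    (hgs : g ∈ Subgroup.centralizer ({s} : Set Y)) :
    cj g (G1 cs' h' (fun c => X (iota β c))) = G1 cs' h' (fun c => X (iota β c)) := by
  have hle : ∀ x, IsRoot cs h x → X x ⊓ Subgroup.centralizer ({s} : Set Y) ≤ G1 cs' h' (fun c => X (iota β c)) := by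
    intro x hx
    rcases h2 x hx with ⟨c, hc, rfl⟩ | h3
    · exact inf_le_left.trans (X_le_G1 (X := fun c => X (iota β c)) hc)
    · rw [h3]; exact bot_le
  have hSup : Sup (fun x => X x ⊓ Subgroup.centralizer ({s} : Set Y)) (Pos cs h) ≤
      G1 cs' h' (fun c => X (iota β c)) := Sup_le fun x hx => hle x hx.1
  obtain ⟨u, hu, w₀, k, hk, hks, v, hv, rfl⟩ :=
    Nodes.NormalForm.mem_centralizer Rd (S := {s}) (by rintro _ rfl; exact hs) hg hgs
  -- `k` normalises
  have key : ∀ {w₀ : W} {k : Y}, Rp cs Rd.nsys w₀ k → k ∈ Subgroup.centralizer ({s} : Set Y) →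
      cj k (G1 cs' h' (fun c => X (iota β c))) ≤ G1 cs' h' (fun c => X (iota β c)) := by
    intro w₀ k hk hks
    unfold G1
    rw [cj_Sup]
    refine iSup_le ?_
    rintro ⟨c, hc⟩
    have h3 : cj k (X (iota β c)) = X (rep cs h w₀ (iota β c)) := Rd.conj_rp hk (S.isRoot_iota hc)
    have h4 : cj k (X (iota β c)) ≤ Subgroup.centralizer ({s} : Set Y) := by
      intro x hx
      rw [mem_cj] at hx
      have h5 := h1 c hc hx
      have h6 := mul_mem (mul_mem hks h5) (inv_mem hks)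
      have e : k * (k⁻¹ * x * k) * k⁻¹ = x := by group
      rwa [e] at h6
    intro x hx
    refine hle _ ((S.isRoot_iota hc).act w₀) (Subgroup.mem_inf.2 ⟨?_, h4 hx⟩)
    rw [← h3]
    exact hx
  have hk' : cj k (G1 cs' h' (fun c => X (iota β c))) = G1 cs' h' (fun c => X (iota β c)) := by
    refine le_antisymm (key hk hks) ?_
    have h3 := key hk.inv (inv_mem hks)
    intro x hx
    rw [mem_cj]
    have h4 := h3 (conj_mem_cj.2 hx)
    rwa [inv_inv] at h4
  rw [cj_mul, cj_mul, cj_eq_of_mem (hSup hv), hk', cj_eq_of_mem (hSup hu)]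

end Sub

end Cfsg.Agent.OddHalf.NI3.K.CentSub

end

-- merged: Cfsg.Agent.OddHalf.NI3.K.BFour
section

/-!
# `HasYF` from the product of two involutions `z a`, `z b` (NI over `F_3`, rows F13: `F4(3)`, `²E6(3)`; helper622)

`C : Cls ...` (`p = 3`), `a`, `b ∈ R`, `s = z a * z b`; the roots `x` with `⟨x, a^∨⟩ + ⟨x, b^∨⟩` even are the roots of a
subsystem: the group of this subsystem is a component of `C(s)`.

* `rep_link` : `s_a s_b` maps `α_a` to `α_b` for a simple bond; `tr_sub` : transitivity of the subsystem;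
* `hasYF_of_sub` : the theorem.
-/

set_option autoImplicit false
set_option linter.unusedSectionVars false
set_option linter.dupNamespace false

namespace Cfsg.Agent.OddHalf.NI3.K.BFour

open CoxeterSystem Cfsg.Agent.ChevalleyStructure.CoxeterGeom Cfsg.Agent.Tits.Roots Cfsg.Agent.Tits.Core
  Cfsg.Agent.Tits.RootComb Cfsg.Agent.Nodes.Comb Cfsg.Agent.Nodes.Reps Cfsg.Agent.Nodes.BNOf
  Cfsg.Agent.Nodes.RGDLib Cfsg.Agent.Nodes.Chart Cfsg.Agent.Nodes.Bruhat Cfsg.Agent.Nodes.Coroot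
  Cfsg.Agent.Nodes.Perp Cfsg.Agent.Nodes.StabComb Cfsg.Agent.Nodes.SubComb Cfsg.Agent.Nodes.Block
open Cfsg.Agent.OddHalf.NI3.K.PerpN Cfsg.Agent.OddHalf.NI3.K.CentSub

section Roots

variable {I W : Type*} [Fintype I] [DecidableEq I] [Group W] {M : CoxeterMatrix I}
  {cs : CoxeterSystem M W} {A : I → I → ℤ} {h : IsCartan M A}

/-- Simple roots joined by a simple bond are conjugate. -/
theorem rep_link {a b : I} (hab : A a b = -1) (hba : A b a = -1) :
    rep cs h (cs.simple a * cs.simple b) (sr a) = sr b := by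
  have e1 : pairing A b (sr a) = A b a := Cfsg.Agent.Nodes.OrthRoot.pairing_sr b a
  have e2 : pairing A a (sr b) = A a b := Cfsg.Agent.Nodes.OrthRoot.pairing_sr a b
  have e3 : rep cs h (cs.simple b) (sr a) = sr a + sr b := by
    rw [rep_simple_eq, e1, hba]
    module
  rw [rep_mul_apply, e3, map_add, rep_simple_sr, rep_simple_eq, e2, hab]
  module

end Roots

variable {I W Y : Type*} [Fintype I] [DecidableEq I] [Group W] [Fintype W] [Group Y] {M : CoxeterMatrix I}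
  {cs : CoxeterSystem M W} {A : I → I → ℤ} {h : IsCartan M A} {p : ℕ} {T : Subgroup Y} {n : I → Y}
  {X : (I → ℤ) → Subgroup Y} {R : Set (I → ℤ)} {Z : (I → ℤ) → Subgroup Y} {z : (I → ℤ) → Y}

section Act

variable (C : Cls cs h p T n X R Z z) (hXZ : ∀ r ∈ R, X r = Z r)
  (le_one : ∀ r ∈ R, ∀ x, IsRoot cs h x → x ≠ r → x ≠ -r → |cpr cs h x r| ≤ 1)

include C hXZ le_one

theorem z_even {r x : I → ℤ} (hr : r ∈ R) (hx : IsRoot cs h x) (he : Even (cpr cs h x r)) {u : Y} (hu : u ∈ X x) :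
    z r * u = u * z r := by
  by_cases h1 : x = r
  · subst h1
    rw [hXZ x hr] at hu
    exact C.z_cent x hr u hu
  by_cases h2 : x = -r
  · have hnr := Cfsg.Agent.Nodes.Perp.neg_mem C hr
    rw [h2, hXZ _ hnr] at hu
    rw [← C.z_neg r hr]
    exact C.z_cent _ hnr u hu
  · have h3 := abs_le.1 (le_one r hr x hx h1 h2)
    have h4 : cpr cs h x r = 0 := by
      obtain ⟨k, hk⟩ := he
      omega
    exact (Cfsg.Agent.Nodes.ZRel.z_cent_of_orth C hr hx ((cpr_zero_iff cs h x (C.root r hr)).1 h4) hu).symm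

theorem z_odd {r x : I → ℤ} (hr : r ∈ R) (hx : IsRoot cs h x) (he : Odd (cpr cs h x r)) {u : Y} (hu : u ∈ X x) :
    z r * u * z r = u⁻¹ := by
  have hrr := C.root r hr
  refine C.z_inv r hr x hx ?_ ?_ ?_ u hu
  · rintro rfl
    rw [cpr_self cs h hrr] at he
    exact absurd he (by decide)
  · rintro rfl
    rw [cpr_neg cs h _ hrr, cpr_self cs h hrr] at he
    exact absurd he (by decide)
  · intro h0
    rw [(cpr_zero_iff cs h x hrr).2 h0] at he
    exact absurd he (by decide)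

/-- The action of `z a * z b`. -/
theorem s_even {a b x : I → ℤ} (ha : a ∈ R) (hb : b ∈ R) (hx : IsRoot cs h x)
    (he : Even (cpr cs h x a + cpr cs h x b)) {u : Y} (hu : u ∈ X x) : z a * z b * u = u * (z a * z b) := by
  rcases Int.even_or_odd (cpr cs h x a) with h1 | h1
  · have h2 : Even (cpr cs h x b) := (Int.even_add.1 he).1 h1
    rw [mul_assoc, z_even C hXZ le_one hb hx h2 hu, ← mul_assoc, z_even C hXZ le_one ha hx h1 hu, mul_assoc]
  · have h2 : Odd (cpr cs h x b) := by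
      rw [← Int.not_even_iff_odd] at h1 ⊢
      exact fun h3 => h1 ((Int.even_add.1 he).2 h3)
    have e1 := z_odd C hXZ le_one ha hx h1 hu
    have e2 := z_odd C hXZ le_one hb hx h2 hu
    have e3 : z b * u = u⁻¹ * z b := by
      rw [← e2, mul_assoc, C.z_sq b hb, mul_one]
    have e4 : z a * u⁻¹ = u * z a := by
      have e5 : z a * u⁻¹ * z a = u := by
        rw [← e1]
        calc z a * (z a * u * z a) * z a = (z a * z a) * u * (z a * z a) := by group
          _ = u := by rw [C.z_sq a ha]; group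
      rw [← e5, mul_assoc (z a * u⁻¹), C.z_sq a ha, mul_one, e5]
    rw [mul_assoc, e3, ← mul_assoc, e4, mul_assoc]

theorem s_odd {a b x : I → ℤ} (ha : a ∈ R) (hb : b ∈ R) (hx : IsRoot cs h x)
    (he : ¬ Even (cpr cs h x a + cpr cs h x b)) {u : Y} (hu : u ∈ X x) :
    z a * z b * u = u⁻¹ * (z a * z b) := by
  rcases Int.even_or_odd (cpr cs h x a) with h1 | h1
  · have h2 : Odd (cpr cs h x b) := by
      rw [← Int.not_even_iff_odd]
      exact fun h3 => he (Int.even_add.2 ⟨fun _ => h3, fun _ => h1⟩)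
    have e2 := z_odd C hXZ le_one hb hx h2 hu
    have e3 : z b * u = u⁻¹ * z b := by
      rw [← e2, mul_assoc, C.z_sq b hb, mul_one]
    rw [mul_assoc, e3, ← mul_assoc, z_even C hXZ le_one ha hx h1 (inv_mem hu), mul_assoc]
  · have h2 : Even (cpr cs h x b) := by
      by_contra h3
      apply he
      rw [Int.not_even_iff_odd] at h3
      exact h1.add_odd h3
    have e1 := z_odd C hXZ le_one ha hx h1 hu
    have e3 : z a * u = u⁻¹ * z a := by
      rw [← e1, mul_assoc, C.z_sq a ha, mul_one]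
    rw [mul_assoc, z_even C hXZ le_one hb hx h2 hu, ← mul_assoc, e3, mul_assoc]

theorem inf_eq_bot (hp : p.Prime) (hodd : p ≠ 2) {a b x : I → ℤ} (ha : a ∈ R) (hb : b ∈ R) (hx : IsRoot cs h x)
    (he : ¬ Even (cpr cs h x a + cpr cs h x b)) :
    X x ⊓ Subgroup.centralizer ({z a * z b} : Set Y) = ⊥ := by
  rw [Subgroup.eq_bot_iff_forall]
  intro u hu
  obtain ⟨hu1, hu2⟩ := Subgroup.mem_inf.1 hu
  have h1 := s_odd C hXZ le_one ha hb hx he hu1
  rw [CentSub.mem_cen.1 hu2] at h1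
  exact Cfsg.Agent.Nodes.ZRel.eq_one_of_inv C hp hodd hx hu1 (mul_right_cancel h1)

end Act

/-! ### The theorem -/

section Main

variable {J W' : Type*} [Fintype J] [DecidableEq J] [Group W'] [Fintype W'] {M' : CoxeterMatrix J}
  {A' : J → J → ℤ} {cs' : CoxeterSystem M' W'} {h' : IsCartan M' A'} {β : J → I → ℤ} {w : J → W} {i : J → I}

/-- Transitivity of the subsystem on its classical roots. -/
theorem tr_sub (C : Cls cs h p T n X R Z z) (S : SubSys cs h A' β w i) (k₀ : J)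
    (hk : ∀ k, β k ∈ R → ∃ v, sr k = rep cs' h' v (sr k₀)) :
    ∀ r ∈ {c | IsRoot cs' h' c ∧ iota β c ∈ R}, ∀ s ∈ {c | IsRoot cs' h' c ∧ iota β c ∈ R},
      ∃ v, s = rep cs' h' v r := by
  have key : ∀ r ∈ {c | IsRoot cs' h' c ∧ iota β c ∈ R}, ∃ v, r = rep cs' h' v (sr k₀) := by
    rintro _ ⟨⟨v, k, rfl⟩, hr⟩
    have h1 : β k ∈ R := by
      rw [← S.rep_phi cs' h', iota_sr] at hr
      have h2 := C.act _ hr (S.phi cs' h' v)⁻¹
      rwa [rep_inv_apply] at h2
    obtain ⟨u, hu⟩ := hk k h1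
    exact ⟨v * u, by rw [rep_mul_apply, ← hu]⟩
  intro r hr s hs
  obtain ⟨u, rfl⟩ := key r hr
  obtain ⟨v, rfl⟩ := key s hs
  exact ⟨v * u⁻¹, by rw [rep_mul_apply, rep_inv_apply]⟩

open Subgroup (center centralizer) in
open Cfsg.Agent.OddHalf.NI (CompIn) in
/-- **`HasYF` from a subsystem.** -/
theorem hasYF_of_sub [Finite Y] (C : Cls cs h 3 T n X R Z z) (hG : G1 cs h X = ⊤)
    (hT : ∀ a ∈ T, ∀ b ∈ T, a * b = b * a) (hXZ : ∀ r ∈ R, X r = Z r)
    (le_one : ∀ r ∈ R, ∀ x, IsRoot cs h x → x ≠ r → x ≠ -r → |cpr cs h x r| ≤ 1)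
    {F : Type} [Field F] [Fintype F] (hc : Fintype.card F = 3)
    (sl : ∀ r ∈ R, Nonempty (Matrix.SpecialLinearGroup (Fin 2) F ≃* ↥(Z r ⊔ Z (-r))))
    {a b : I → ℤ} (ha : a ∈ R) (hb : b ∈ R) (S : SubSys cs h A' β w i)
    (him : ∀ x, IsRoot cs h x → (Even (cpr cs h x a + cpr cs h x b) ↔ ∃ c, IsRoot cs' h' c ∧ x = iota β c))
    (hne : ∃ x, IsRoot cs h x ∧ ¬ Even (cpr cs h x a + cpr cs h x b))
    (hab : cpr cs h a b = 0) (hba : cpr cs h b a = 0)
    [Nonempty J] (hirr : ∀ K : Set J, K.Nonempty → K ≠ Set.univ → ∃ a ∈ K, ∃ b, b ∉ K ∧ M' a b ≠ 2)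
    (hnb : ∀ k : J, ∃ j, j ≠ k ∧ M' k j ≠ 2 ∧ β j ∈ R) (k₀ : J)
    (hk : ∀ k, β k ∈ R → ∃ v, sr k = rep cs' h' v (sr k₀))
    (hcount : 14 ≤ {c | IsRoot cs' h' c ∧ 0 ≤ c}.ncard) : HasYF Y := by
  classical
  have hp : Nat.Prime 3 := Nat.prime_three
  have hodd : 3 ≠ 2 := by norm_num
  have : Fact (Nat.Prime 3) := ⟨hp⟩
  have ho : Odd (Fintype.card F) := by rw [hc]; decide
  have hG' : ∀ g : Y, g ∈ GG cs h T X := by
    intro g
    have : G1 cs h X ≤ GG cs h T X := le_sup_right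
    exact this (by rw [hG]; trivial)
  set s : Y := z a * z b with hs
  have hsT : s ∈ T := mul_mem (C.z_torus a ha) (C.z_torus b hb)
  -- the two kinds of roots
  have h1 : ∀ c, IsRoot cs' h' c → X (iota β c) ≤ centralizer ({s} : Set Y) := by
    intro c hc' u hu
    have hx := S.isRoot_iota hc'
    exact CentSub.mem_cen.2 (s_even C hXZ le_one ha hb hx ((him _ hx).2 ⟨c, hc', rfl⟩) hu)
  have h2 : ∀ x, IsRoot cs h x → (∃ c, IsRoot cs' h' c ∧ x = iota β c) ∨
      X x ⊓ centralizer ({s} : Set Y) = ⊥ := by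
    intro x hx
    by_cases he : Even (cpr cs h x a + cpr cs h x b)
    · exact Or.inl ((him x hx).1 he)
    · exact Or.inr (inf_eq_bot C hXZ le_one hp hodd ha hb hx he)
  -- the classical data of the subsystem
  choose g hg using fun j => exists_rp cs C.rgd.nsys (w j)
  have D0 := Cfsg.Agent.Nodes.Sub.rgd_sub C.rgd S (comm_of_cent (cs' := cs') (h' := h') C.rgd S hsT h1 h2) hg
  have C0 := Cfsg.Agent.Nodes.ClsSub.cls_sub C S hg D0
  obtain ⟨T', n', z', C2, hz2, hT2⟩ := exists_cls_G1 C0 hT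
  have hG2 := G1_restrict cs' h' (fun c => X (iota β c))
  have hq : IsQuasisimple ↥(G1 cs' h' (fun c => X (iota β c))) := by
    refine QS.quasisimple C2 hp hodd hG2 hT2 hirr fun x hx => ?_
    obtain ⟨v, k, rfl⟩ := hx
    obtain ⟨j, hj, hM, hjR⟩ := hnb k
    have hne : (sr k : J → ℤ) ≠ sr j := by
      intro e
      have := congrFun e k
      rw [sr_self, sr_ne hj.symm] at this
      exact one_ne_zero this
    have hne' : (sr k : J → ℤ) ≠ -sr j := by
      intro e
      have := congrFun e k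
      rw [sr_self, Pi.neg_apply, sr_ne hj.symm, neg_zero] at this
      exact one_ne_zero this
    refine ⟨rep cs' h' v (sr j), ⟨⟨v, j, rfl⟩, ?_⟩, ?_, ?_, ?_⟩
    · rw [← S.rep_phi cs' h', iota_sr]
      exact C.act _ hjR _
    · rw [form_rep]
      exact form_sr_ne hj hM
    · exact fun e => hne (rep_injective_apply cs' h' v e)
    · intro e
      rw [← map_neg] at e
      exact hne' (rep_injective_apply cs' h' v e)
  have hle : G1 cs' h' (fun c => X (iota β c)) ≤ centralizer ({s} : Set Y) := RGD.Sup_le fun c hc' => h1 c hc'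
  have hnorm : centralizer ({s} : Set Y) ≤ Subgroup.normalizer (G1 cs' h' (fun c => X (iota β c)) : Set Y) := by
    intro g hg
    rw [mem_normalizer_iff_cj]
    exact cj_G1_of_cent C.rgd S hsT h1 h2 (hG' g) hg
  -- `s` in the group of the subsystem
  obtain ⟨ca, hca, ea⟩ := (him a (C.root a ha)).1 (by
    rw [cpr_self cs h (C.root a ha), hab]; decide)
  obtain ⟨cb, hcb, eb⟩ := (him b (C.root b hb)).1 (by
    rw [cpr_self cs h (C.root b hb), hba]; decide)
  have hcaR : ca ∈ {c | IsRoot cs' h' c ∧ iota β c ∈ R} := ⟨hca, ea ▸ ha⟩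
  have hcbR : cb ∈ {c | IsRoot cs' h' c ∧ iota β c ∈ R} := ⟨hcb, eb ▸ hb⟩
  have hza : (z' ca : Y) = z a := by rw [hz2 ca hcaR, ← ea]
  have hzb : (z' cb : Y) = z b := by rw [hz2 cb hcbR, ← eb]
  have hy : s ∈ G1 cs' h' (fun c => X (iota β c)) := by
    rw [hs, ← hza, ← hzb]
    exact mul_mem (z' ca).2 (z' cb).2
  have hs1 : s ≠ 1 := by
    obtain ⟨x, hx, he⟩ := hne
    intro e
    apply Cfsg.Agent.Nodes.StdConn.X_ne_bot C hx
    have h3 := inf_eq_bot C hXZ le_one hp hodd ha hb hx he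
    rw [← hs, e] at h3
    rw [← h3, eq_comm, inf_eq_left]
    intro u _
    exact CentSub.mem_cen.2 (by rw [one_mul, mul_one])
  refine ⟨s, _, hy, ?_, ⟨hle, ?_, ?_⟩, Or.inr (Or.inl ⟨?_, ?_⟩)⟩
  · refine orderOf_eq_prime ?_ hs1
    rw [pow_two, hs]
    calc z a * z b * (z a * z b) = (z a * z b) * (z b * z a) := by
          rw [Cfsg.Agent.Nodes.ZRel.z_comm C ha hb]
      _ = z a * (z b * z b) * z a := by group
      _ = 1 := by rw [C.z_sq b hb, mul_one, C.z_sq a ha]
  · exact ((Subgroup.normal_subgroupOf_iff_le_normalizer hle).2 hnorm).isSubnormal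
  · exact Cfsg.Agent.SignalizersComponents.Components.isQuasisimple_of_mulEquiv
      (Subgroup.subgroupOfEquivOfLe hle).symm hq
  · have hfin : (RGD.Pos cs' h').Finite := Cfsg.Agent.Nodes.Unique.finite_pos
    have h4 := Cfsg.Agent.Nodes.CardSup.card_sup D0 (s := hfin.toFinset) (by rw [hfin.coe_toFinset])
      (by rw [hfin.coe_toFinset]; exact Cfsg.Agent.Nodes.Unique.closed_pos)
    rw [hfin.coe_toFinset] at h4
    have h5 : RGD.Sup (fun c => X (iota β c)) (RGD.Pos cs' h') ≤ G1 cs' h' (fun c => X (iota β c)) :=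
      RGD.Sup_mono fun x hx => hx.1
    have h6 := Subgroup.card_dvd_of_le h5
    rw [h4] at h6
    have h7 : (3 : ℕ) ^ hfin.toFinset.card ∣ ∏ c ∈ hfin.toFinset, Nat.card ↥(X (iota β c)) := by
      rw [← Finset.prod_const]
      refine Finset.prod_dvd_prod_of_dvd _ _ fun c hc' => ?_
      have hx := S.isRoot_iota ((hfin.mem_toFinset.1 hc').1)
      have h8 : IsPGroup 3 ↥(X (iota β c)) := C.rgd.pgrp' hx
      obtain ⟨k, hk⟩ := IsPGroup.iff_card.1 h8
      rw [hk]
      refine dvd_pow_self 3 ?_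
      rintro rfl
      rw [pow_zero, Subgroup.card_eq_one] at hk
      exact Cfsg.Agent.Nodes.StdConn.X_ne_bot C hx hk
    have h8 : 14 ≤ hfin.toFinset.card := by
      rw [← Set.ncard_eq_toFinset_card _ hfin]
      exact hcount
    exact (pow_dvd_pow 3 h8).trans (h7.trans h6)
  · refine Fr.frame_of_cls C2 (tr_sub C S k₀ hk) hp hodd hG2 ho hc ?_ ?_ ?_
    · intro r hr
      obtain ⟨φ⟩ := sl _ hr.2
      have hZle : ∀ s ∈ {c | IsRoot cs' h' c ∧ iota β c ∈ R}, Z (iota β s) ≤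
          G1 cs' h' (fun c => X (iota β c)) :=
        fun s hs => (C.le _ hs.2).trans (X_le_G1 (cs := cs') (h := h') (X := fun c => X (iota β c)) hs.1)
      have hneg : -r ∈ {c | IsRoot cs' h' c ∧ iota β c ∈ R} := Cfsg.Agent.Nodes.Perp.neg_mem C2 hr
      have e1 : Z (iota β r) ⊔ Z (-iota β r) = Z (iota β r) ⊔ Z (iota β (-r)) := by rw [map_neg]
      have e2 := Subgroup.subgroupOf_sup (hZle r hr) (hZle (-r) hneg)
      have e3 := Subgroup.subgroupOfEquivOfLe (sup_le (hZle r hr) (hZle (-r) hneg))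
      exact ⟨(φ.trans (MulEquiv.subgroupCongr e1)).trans (e3.symm.trans (MulEquiv.subgroupCongr e2))⟩
    · have h4 : (⟨s, hy⟩ : ↥(G1 cs' h' (fun c => X (iota β c)))) = z' ca * z' cb := by
        apply Subtype.ext
        push_cast
        rw [hza, hzb]
      rw [h4]
      exact mul_mem (Subgroup.subset_closure ⟨_, hcaR, rfl⟩) (Subgroup.subset_closure ⟨_, hcbR, rfl⟩)
    · intro h4
      exact hs1 (congrArg Subtype.val h4)

end Main

end Cfsg.Agent.OddHalf.NI3.K.BFour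

end

-- merged: Cfsg.Agent.OddHalf.NI3.K.F4
section

/-!
# `HasYF` for `F4(3)` (NI over `F_3`, (F1_3); helper622)

`y = z a * z b`, `a = 0210`, `b = 0010`, `M` the group of the roots `x` with `x 0` even, of type `B4`; base
`2210, α_3, α_2, α_1`.
-/

set_option autoImplicit false
set_option linter.unusedSectionVars false
set_option linter.dupNamespace false

namespace Cfsg.Agent.OddHalf.NI3.K.F4

open CoxeterSystem Cfsg.Agent.ChevalleyStructure.CoxeterGeom Cfsg.Agent.Tits.Roots Cfsg.Agent.Tits.Core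
  Cfsg.Agent.Tits.RootComb Cfsg.Agent.Nodes.Comb Cfsg.Agent.Nodes.Reps Cfsg.Agent.Nodes.BNOf
  Cfsg.Agent.Nodes.RGDLib Cfsg.Agent.Nodes.Chart Cfsg.Agent.Nodes.Coroot Cfsg.Agent.Nodes.StabComb
  Cfsg.Agent.Nodes.KindBase Cfsg.Agent.Nodes.KindChev Cfsg.Agent.Nodes.ChevCls Cfsg.Agent.Nodes.ChevChart
  Cfsg.Agent.Nodes.SubComb
open Cfsg.Lie Cfsg.Agent.ChevalleyStructure Cfsg.Agent.ChevalleyStructure.Elts
  Cfsg.Agent.ChevalleyStructure.NPerm Cfsg.Agent.ChevalleyStructure.CoxeterGeomTypes Cfsg.Agent.Nodes.RGDChev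
  Cfsg.Agent.KFacts.RgdChevCoord Cfsg.Agent.OddHalf.NI.ModelChev

/-! ### The subsystem `B4` -/

set_option backward.isDefEq.respectTransparency false in
/-- The Coxeter matrix `B4`: nodes `0 - 1 - 2 = 3`. -/
def MB : CoxeterMatrix (Fin 4) where
  M := !![1, 3, 2, 2; 3, 1, 3, 2; 2, 3, 1, 4; 2, 2, 4, 1]
  isSymm := by decide
  diagonal := by decide
  off_diagonal := by decide

/-- The Cartan matrix. -/
def AB : Fin 4 → Fin 4 → ℤ := ![![2, -1, 0, 0], ![-1, 2, -1, 0], ![0, -1, 2, -1], ![0, 0, -2, 2]]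

set_option backward.isDefEq.respectTransparency false in
theorem isCartanB : IsCartan MB AB := by
  constructor <;> decide

set_option backward.isDefEq.respectTransparency false in
theorem irrB : ∀ J : Finset (Fin 4), J = ∅ ∨ J = Finset.univ ∨ ∃ a ∈ J, ∃ b, b ∉ J ∧ MB a b ≠ 2 := by
  decide +kernel

/-- The positive roots of `B4`. -/
def pB : List (Fin 4 → ℤ) :=
  [![1, 0, 0, 0], ![0, 1, 0, 0], ![0, 0, 1, 0], ![0, 0, 0, 1], ![1, 1, 0, 0], ![0, 1, 1, 0], ![0, 0, 1, 1],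
   ![1, 1, 1, 0], ![0, 1, 1, 1], ![0, 0, 1, 2], ![1, 1, 1, 1], ![0, 1, 1, 2], ![1, 1, 1, 2], ![0, 1, 2, 2],
   ![1, 1, 2, 2], ![1, 2, 2, 2]]

theorem pB_nodup : pB.Nodup := by decide

theorem pB_nonneg : ∀ c ∈ pB, ∀ k, 0 ≤ c k := by decide

/-- The base. -/
def be : Fin 4 → Fin 4 → ℤ := ![![2, 2, 1, 0], ![0, 0, 0, 1], ![0, 0, 1, 0], ![0, 1, 0, 0]]

/-- The nodes. -/
def nd : Fin 4 → Fin 4 := ![2, 3, 2, 1]

theorem iota_be (c : Fin 4 → ℤ) : iota be c = ![2 * c 0, 2 * c 0 + c 3, c 0 + c 2, c 1] := by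
  funext k
  rw [iota_apply, Finset.sum_apply, Fin.sum_univ_four]
  fin_cases k <;> simp [be] <;> ring

section

variable {W : Type*} [Group W] (cs : CoxeterSystem CoxeterMatrix.F₄ W)

/-- The Weyl group elements of the base. -/
def wd : Fin 4 → W := ![cs.simple 0 * cs.simple 1, 1, 1, 1]

/-- The reflection, computable. -/
def rx (i : Fin 4) (x : Fin 4 → ℤ) : Fin 4 → ℤ := x - pairing (cartanOf chevF4 4) i x • sr i

theorem rep_rx (h : IsCartan CoxeterMatrix.F₄ (cartanOf chevF4 4)) (i : Fin 4) (x : Fin 4 → ℤ) :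
    rep cs h (cs.simple i) x = rx i x := rep_simple_eq cs h i x

set_option backward.isDefEq.respectTransparency false in
theorem rx_eq : rx 0 (rx 1 (sr 2)) = ![2, 2, 1, 0] := by decide +kernel

set_option backward.isDefEq.respectTransparency false in
theorem pair_zero : ∀ k, pairing (cartanOf chevF4 4) 2 (rx 1 (rx 0 (be k))) = AB 0 k := by decide +kernel

set_option backward.isDefEq.respectTransparency false in
theorem pair_pos : ∀ j, j ≠ 0 → ∀ k, pairing (cartanOf chevF4 4) (nd j) (be k) = AB j k := by decide +kernel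

theorem be_pos : ∀ j, j ≠ 0 → be j = sr (nd j) := by decide

theorem wd_pos : ∀ j : Fin 4, j ≠ 0 → wd cs j = 1 := by
  intro j hj
  fin_cases j
  · exact absurd rfl hj
  all_goals rfl

theorem subSys (h : IsCartan CoxeterMatrix.F₄ (cartanOf chevF4 4)) : SubSys cs h AB be (wd cs) nd where
  eq j := by
    by_cases hj : j = 0
    · subst hj
      show be 0 = rep cs h (cs.simple 0 * cs.simple 1) (sr 2)
      rw [rep_mul_apply, rep_rx, rep_rx, rx_eq]
      rfl
    · rw [wd_pos cs j hj, map_one, Module.End.one_apply, be_pos j hj]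
  cartan j k := by
    by_cases hj : j = 0
    · subst hj
      show pairing _ 2 (rep cs h (cs.simple 0 * cs.simple 1)⁻¹ (be k)) = _
      rw [mul_inv_rev, cs.inv_simple, cs.inv_simple, rep_mul_apply, rep_rx, rep_rx]
      exact pair_zero k
    · rw [wd_pos cs j hj, inv_one, map_one, Module.End.one_apply]
      exact pair_pos j hj k
  indep c hc := by
    rw [iota_be] at hc
    have h0 := congrFun hc 0
    have h1 := congrFun hc 1
    have h2 := congrFun hc 2
    have h3 := congrFun hc 3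
    simp at h0 h1 h2 h3
    funext k
    fin_cases k <;> simp <;> omega

/-- The coordinates of an even root. -/
def co (x : Fin 4 → ℤ) : Fin 4 → ℤ := ![x 0 / 2, x 3, x 2 - x 0 / 2, x 1 - x 0]

theorem co_iota (c : Fin 4 → ℤ) : co (iota be c) = c := by
  rw [iota_be]
  funext k
  fin_cases k <;> simp [co]

theorem iota_co {x : Fin 4 → ℤ} (hx : Even (x 0)) : iota be (co x) = x := by
  rw [iota_be]
  have h1 : 2 * (x 0 / 2) = x 0 := Int.two_mul_ediv_two_of_even hx
  funext k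
  fin_cases k
  · simpa [co] using h1
  · show 2 * (x 0 / 2) + (x 1 - x 0) = x 1
    omega
  · show x 0 / 2 + (x 2 - x 0 / 2) = x 2
    omega
  · rfl

set_option backward.isDefEq.respectTransparency false in
theorem base_tab : ∀ r < chevF4.nroots, vec chevF4 4 r 0 % 2 = 0 →
    (∀ k, 0 ≤ co (vec chevF4 4 r) k) ∨ ∀ k, co (vec chevF4 4 r) k ≤ 0 := by decide +kernel

set_option backward.isDefEq.respectTransparency false in
theorem pB_tab : ∀ c ∈ pB, ∃ r < chevF4.nroots, ∀ k, vec chevF4 4 r k =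
    (![2 * c 0, 2 * c 0 + c 3, c 0 + c 2, c 1] : Fin 4 → ℤ) k := by decide +kernel

variable [Finite W] (h : IsCartan CoxeterMatrix.F₄ (cartanOf chevF4 4))

theorem base : ∀ c, IsRoot cs h (iota be c) → 0 ≤ c ∨ c ≤ 0 := by
  intro c hc
  obtain ⟨r, hr, e⟩ := (isRoot_iff Nodes.KindF.isType cs _).1 hc
  have h1 : vec chevF4 4 r 0 % 2 = 0 := by
    rw [e, iota_be]
    simp
  have h2 := base_tab r hr h1
  rw [e, co_iota] at h2
  exact h2

theorem isRoot_co {x : Fin 4 → ℤ} (hx : IsRoot cs h x) (he : Even (x 0)) :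
    IsRoot MB.toCoxeterSystem isCartanB (co x) := by
  refine (subSys cs h).isRoot_of_iota MB.toCoxeterSystem isCartanB (base cs h) ?_
  rwa [iota_co he]

theorem parity (x : Fin 4 → ℤ) :
    Even (cpr cs h x (Nodes.KindF.fr 2) + cpr cs h x (Nodes.KindF.fr 3)) ↔ Even (x 0) := by
  rw [Nodes.KindF.cpr_fr, Nodes.KindF.cpr_fr, Fin.sum_univ_four, Fin.sum_univ_four]
  have e : x 0 * Nodes.KindF.cf 2 0 + x 1 * Nodes.KindF.cf 2 1 + x 2 * Nodes.KindF.cf 2 2 + x 3 * Nodes.KindF.cf 2 3 +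
      (x 0 * Nodes.KindF.cf 3 0 + x 1 * Nodes.KindF.cf 3 1 + x 2 * Nodes.KindF.cf 3 2 + x 3 * Nodes.KindF.cf 3 3) =
      x 0 + 2 * (x 2 - x 0 - x 3) := by
    simp [Nodes.KindF.cf]
    ring
  rw [e, Int.even_add]
  simp

theorem image (x : Fin 4 → ℤ) (hx : IsRoot cs h x) :
    Even (cpr cs h x (Nodes.KindF.fr 2) + cpr cs h x (Nodes.KindF.fr 3)) ↔
      ∃ c, IsRoot MB.toCoxeterSystem isCartanB c ∧ x = iota be c := by
  rw [parity cs h]
  constructor
  · intro he
    exact ⟨co x, isRoot_co cs h hx he, (iota_co he).symm⟩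
  · rintro ⟨c, -, rfl⟩
    rw [iota_be]
    simp

include cs h in
theorem count : 14 ≤ {c | IsRoot MB.toCoxeterSystem isCartanB c ∧ 0 ≤ c}.ncard := by
  classical
  have hfin : Finite MB.Group := (subSys cs h).finite MB.toCoxeterSystem isCartanB
  have h1 : pB.toFinset.card = 16 := by
    rw [List.toFinset_card_of_nodup pB_nodup]
    rfl
  have h2 : ((pB.toFinset : Finset (Fin 4 → ℤ)) : Set (Fin 4 → ℤ)) ⊆
      {c | IsRoot MB.toCoxeterSystem isCartanB c ∧ 0 ≤ c} := by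
    intro c hc
    rw [Finset.mem_coe, List.mem_toFinset] at hc
    refine ⟨?_, fun k => pB_nonneg c hc k⟩
    refine (subSys cs h).isRoot_of_iota MB.toCoxeterSystem isCartanB (base cs h) ?_
    rw [iota_be]
    obtain ⟨r, hr, e⟩ := pB_tab c hc
    exact (isRoot_iff Nodes.KindF.isType cs _).2 ⟨r, hr, funext e⟩
  have h3 := Set.ncard_le_ncard h2 ((Cfsg.Agent.Nodes.BNOf.RGD.finite_roots
    (cs := MB.toCoxeterSystem) (h := isCartanB)).subset fun c hc => hc.1)
  rw [Set.ncard_coe_finset, h1] at h3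
  omega

end

set_option backward.isDefEq.respectTransparency false in
/-- **`F4(3)`**: `M` of type `B4`. -/
theorem hasYF_F4 {K : Type} [Field K] [Fintype K] (hc : Fintype.card K = 3) : HasYF ↥(chevF4.group K) := by
  have : Fact (Nat.Prime 3) := ⟨Nat.prime_three⟩
  have hchar : CharP K 3 := by
    obtain ⟨q, hq⟩ := CharP.exists K
    have hqp : q.Prime := (CharP.char_is_prime_or_zero K q).resolve_right (CharP.char_ne_zero_of_finite K q)
    obtain ⟨n, -, hn⟩ := FiniteField.card K q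
    rw [hc] at hn
    have h1 : q ∣ 3 := by rw [hn]; exact dvd_pow_self q n.2.ne'
    rw [(Nat.prime_dvd_prime_iff_eq hqp Nat.prime_three).1 h1] at hq
    exact hq
  have hp := Nodes.KindF.isType
  have hfin : Finite CoxeterMatrix.F₄.Group := finite_W hp CoxeterMatrix.F₄.toCoxeterSystem
  let _ : Fintype CoxeterMatrix.F₄.Group := Fintype.ofFinite _
  have hfin' : Finite MB.Group := (subSys CoxeterMatrix.F₄.toCoxeterSystem hp.isCartan).finite
    MB.toCoxeterSystem isCartanB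
  let _ : Fintype MB.Group := Fintype.ofFinite _
  have C := Nodes.ChevCls.cls hp (K := K) CoxeterMatrix.F₄.toCoxeterSystem 3 Nodes.KindF.kd 0 dF longF
    (center_of_mem (by simp))
  have hR : ∀ j : Fin 4, j ≠ 3 → be j ∈ RN CoxeterMatrix.F₄.toCoxeterSystem (h := hp.isCartan) 4 Nodes.KindF.d := by
    intro j hj
    refine ⟨(subSys _ hp.isCartan).isRoot_beta j, ?_⟩
    revert j
    decide +kernel
  have hR3 : be 3 ∉ RN CoxeterMatrix.F₄.toCoxeterSystem (h := hp.isCartan) 4 Nodes.KindF.d := by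
    rintro ⟨-, h1⟩
    revert h1
    decide +kernel
  refine BFour.hasYF_of_sub C (G1_eq_top hp _) ?_ (fun _ _ => rfl)
    (fun r hr y hy => le_one hp _ Nodes.KindF.kd 0 longF hr hy) hc
    (fun s hs => slEquiv hp (K := K) 3 Nodes.KindF.kd (i := 2) (j := 3) (by decide +kernel) (by decide) hs)
    (Nodes.KindF.kd.mem hp 2) (Nodes.KindF.kd.mem hp 3) (subSys _ hp.isCartan)
    (image CoxeterMatrix.F₄.toCoxeterSystem hp.isCartan) ⟨sr 0, isRoot_sr _ _ 0, ?_⟩ ?_ ?_ (irr_of irrB) ?_ 1 ?_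
    (count CoxeterMatrix.F₄.toCoxeterSystem hp.isCartan)
  · intro s hs t ht
    have := comm_TT hp (K := K) ⟨s, hs⟩ ⟨t, ht⟩
    exact congrArg Subtype.val this
  · rw [parity, sr_self]
    decide
  · rw [Nodes.KindF.cpr_fr]
    decide
  · rw [Nodes.KindF.cpr_fr]
    decide
  · intro k
    fin_cases k
    · exact ⟨1, by decide, by decide, hR 1 (by decide)⟩
    · exact ⟨0, by decide, by decide, hR 0 (by decide)⟩
    · exact ⟨1, by decide, by decide, hR 1 (by decide)⟩
    · exact ⟨2, by decide, by decide, hR 2 (by decide)⟩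
  · intro k hk
    fin_cases k
    · exact ⟨_, (BFour.rep_link (cs := MB.toCoxeterSystem) (h := isCartanB) (a := 1) (b := 0) rfl rfl).symm⟩
    · exact ⟨1, by rw [map_one, Module.End.one_apply]; rfl⟩
    · exact ⟨_, (BFour.rep_link (cs := MB.toCoxeterSystem) (h := isCartanB) (a := 1) (b := 2) rfl rfl).symm⟩
    · exact absurd hk hR3

/-- **Row `F4(3)`.** -/
theorem row_F4 {X : Type*} [Group X] (h : LieOddFam.FF4 X 3) : HasYF X := by
  obtain ⟨F, _, _, hF, ⟨e⟩⟩ := h
  exact Congr.hasYF_congr e.symm (hasYF_F4 hF)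

end Cfsg.Agent.OddHalf.NI3.K.F4

end

-- merged: Cfsg.Agent.OddHalf.NI3.K.TwESixCls
section

/-!
# Classical data for `²E₆(q)`, `q` odd (helper622)

* `psi` : `SL(2, q) → ²E₆(q)` at the node `0`, `range_psi`, `inv_node` : `psi (-1)` is the involution of the node `0`;
* `R` : the long roots; `cls` : `Cls` for the long root groups; `sl` : `⟨X r, X (-r)⟩ ≃ SL(2, q)`.
-/

set_option autoImplicit false
set_option linter.unusedSectionVars false
set_option linter.dupNamespace false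

namespace Cfsg.Agent.OddHalf.NI3.K.TwESixCls

open CoxeterSystem Cfsg.Agent.ChevalleyStructure.CoxeterGeom Cfsg.Agent.Tits.Roots Cfsg.Agent.Tits.Core
  Cfsg.Agent.Tits.RootComb Cfsg.Agent.Nodes.Comb Cfsg.Agent.Nodes.Reps Cfsg.Agent.Nodes.BNOf
  Cfsg.Agent.Nodes.Coroot Cfsg.Agent.Nodes.Chart Cfsg.Agent.Nodes.ClsInv
  Cfsg.Agent.Nodes.RGDTwGen Cfsg.Agent.Nodes.RGDChev Cfsg.Agent.Nodes.RGDFold Cfsg.Agent.Nodes.RGDTwE6
  Cfsg.Agent.KFacts.TwESix.Comb
open Cfsg.Lie Cfsg.Agent.ChevalleyStructure Cfsg.Agent.ChevalleyStructure.Elts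
  Cfsg.Agent.ChevalleyStructure.RootVec Cfsg.Agent.ChevalleyStructure.RootVecTab
  Cfsg.Agent.ChevalleyStructure.NPerm Cfsg.Agent.ChevalleyStructure.CoxeterGeomTypes
  Cfsg.Agent.ChevalleyStructure.TwistedU Cfsg.Agent.ChevalleyStructure.TwistedFix
open Cfsg.Agent.ChevalleyStructure.TwE6Basic (sg posE negE)
open Cfsg.Agent.OddHalf.LongSL.Chev Cfsg.Agent.OddHalf.LongSL.Fold

variable {K : Type} [Field K] {q : ℕ} {φ : K →+* K}

theorem sg_xG {r : ℕ} (hr : r < 72) (h1 : TwistedE6Sigma.rho r = r) (t : K) :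
    sg φ (xG hp.inList r t) = xG hp.inList r (φ t) := by
  apply Units.ext
  have h3 := TwistedE6Sigma.sig_xE6 φ (g := xG hp.inList r t) hr (coe_xG _ _ _)
  rw [h1, TwistedE6Sigma.eps_of_rho_eq r hr h1, Int.cast_one, one_mul] at h3
  exact h3

theorem hsp (t : K) : sg φ (xG hp.inList (chevE6.simple 1) t) = xG hp.inList (chevE6.simple 1) (φ t) := by
  rw [LongSL.Tw.simple_E6.1]
  exact sg_xG (by norm_num) (by decide +kernel) t

theorem hsn (t : K) :
    sg φ (xG hp.inList (chevE6.neg (chevE6.simple 1)) t) = xG hp.inList (chevE6.neg (chevE6.simple 1)) (φ t) := by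
  rw [LongSL.Tw.simple_E6.1, LongSL.Tw.simple_E6.2]
  exact sg_xG (by norm_num) (by decide +kernel) t

theorem hA : ∀ k < chevE6.nroots, (V chevE6 J k = sr 0 ↔ k ∈ [chevE6.simple 1]) := by
  intro k hk
  rw [cls 0 k hk]
  show k ∈ [46] ↔ k ∈ [chevE6.simple 1]
  rw [LongSL.Tw.simple_E6.1]

theorem hA' : ∀ k < chevE6.nroots, (V chevE6 J k = -sr 0 ↔ k ∈ [chevE6.neg (chevE6.simple 1)]) := by
  intro k hk
  rw [cls' 0 k hk]
  show k ∈ [25] ↔ k ∈ [chevE6.neg (chevE6.simple 1)]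
  rw [LongSL.Tw.simple_E6.1, LongSL.Tw.simple_E6.2]

theorem pair_tab : ∀ k < chevE6.nroots, pairing A 0 (V chevE6 J k) = chevE6.cartan 1 k := by decide +kernel

section

variable {W : Type*} [Group W] (cs : CoxeterSystem CoxeterMatrix.F₄ W)
variable [Fintype K] (hφ : ∀ x, φ x = x ^ q) (hqq : ∀ t : K, (t ^ q) ^ q = t) (p : ℕ) [Fact p.Prime] [CharP K p]

/-- `SL(2, q)` at the node `0`. -/
noncomputable def psi : Matrix.SpecialLinearGroup (Fin 2) (FF φ) →* ↥(twistedE6 K q) :=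
  (psi0 (hp := hp) 1 φ).codRestrict (twistedE6 K q)
    (psi0_mem CoxeterMatrix.F₄.toCoxeterSystem isCartan foldData (foldGrp hφ hqq) 0 1 hA hA' φ hsp hsn p)

theorem coe_psi (g : Matrix.SpecialLinearGroup (Fin 2) (FF φ)) :
    ((psi hφ hqq p g : ↥(twistedE6 K q)) : GL chevE6.Idx K) = psi0 (hp := hp) 1 φ g := rfl

theorem psi_injective (h2K : (2 : K) ≠ 0) : Function.Injective (psi hφ hqq p) := fun a b hab =>
  psi0_injective (hp := hp) 1 φ h2K
    (by
      have h := LongSL.Tw.chk_E6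
      rw [Bool.and_eq_true, Bool.and_eq_true] at h
      exact h.1.2) (congrArg Subtype.val hab)

theorem range_psi : (psi hφ hqq p).range = X φ q (sr 0) ⊔ X φ q (-sr 0) := by
  apply le_antisymm
  · rintro _ ⟨g, rfl⟩
    have h1 : g ∈ (X φ q (sr 0) ⊔ X φ q (-sr 0)).comap (psi hφ hqq p) := by
      refine (Subgroup.closure_le _).2 ?_ (SL2Hom.mem_closure_SL2 g)
      rintro x (⟨t, rfl⟩ | ⟨t, rfl⟩)
      · refine Subgroup.mem_sup_left (show psi hφ hqq p (SL2Hom.up t) ∈ X φ q (sr 0) from ?_)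
        rw [X, Subgroup.mem_subgroupOf, coe_psi, psi0_up]
        exact (mem_R_pos 0 1 hA φ hsp _).2 ⟨t, t.2, rfl⟩
      · refine Subgroup.mem_sup_right (show psi hφ hqq p (SL2Hom.lo t) ∈ X φ q (-sr 0) from ?_)
        rw [X, Subgroup.mem_subgroupOf, coe_psi, psi0_lo]
        exact (mem_R_neg 0 1 hA' φ hsn _).2 ⟨t, t.2, rfl⟩
    exact h1
  · refine sup_le ?_ ?_
    · intro u hu
      obtain ⟨t, ht, e⟩ := (mem_R_pos 0 1 hA φ hsp _).1 (Subgroup.mem_subgroupOf.1 hu)
      exact ⟨SL2Hom.up ⟨t, ht⟩, Subtype.ext (by rw [coe_psi, psi0_up]; exact e.symm)⟩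
    · intro u hu
      obtain ⟨t, ht, e⟩ := (mem_R_neg 0 1 hA' φ hsn _).1 (Subgroup.mem_subgroupOf.1 hu)
      exact ⟨SL2Hom.lo ⟨t, ht⟩, Subtype.ext (by rw [coe_psi, psi0_lo]; exact e.symm)⟩

/-- **The involution of the node `0`.** -/
theorem inv_node [Finite W] : Inv cs isCartan (T K q) (X φ q) (psi hφ hqq p (-1)) (sr 0) := by
  have hr := simple_lt hp.inList (lt_rank hp 1)
  have hcpr : ∀ k < chevE6.nroots, cpr cs isCartan (V chevE6 J k) (sr 0) = chevE6.cartan 1 k := by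
    intro k hk
    rw [cpr_sr, pair_tab k hk]
  have hconj : ∀ k < chevE6.nroots, ∀ t : K, psi0 (hp := hp) 1 φ (-1) * xG hp.inList k t * (psi0 (hp := hp) 1 φ (-1))⁻¹ =
      xG hp.inList k ((-1) ^ chevE6.cartan 1 k * t) := by
    intro k hk t
    rw [psi0_neg_one]
    exact conj_hG hp K 1 hk (-1) (neg_ne_zero.2 one_ne_zero) t
  refine ⟨?_, ?_, ?_, ?_⟩
  · rw [T, Subgroup.mem_subgroupOf]
    refine ⟨?_, (psi hφ hqq p (-1)).2⟩
    rw [coe_psi, psi0_neg_one]
    exact hG_mem_diagonal hp.inList hr (neg_ne_zero.2 one_ne_zero)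
  · rw [← range_psi hφ hqq p]
    exact ⟨_, rfl⟩
  · intro y hy he a ha
    obtain ⟨s, hs, rfl⟩ := (foldData.isRoot_iff (cs := cs) (h := isCartan) hp.checked
      (fun i r hr => wp_lt hp (J i) hr) y).1 hy
    rw [hcpr s hs] at he
    have ha' := (Subgroup.mem_subgroupOf.1 ha).1
    have h1 : rspan (xG (F := K) hp.inList) {k | k < chevE6.nroots ∧ V chevE6 J k = V chevE6 J s} ≤
        Subgroup.centralizer {psi0 (hp := hp) 1 φ (-1)} := by
      refine rspan_le _ ?_
      rintro k ⟨hk, hV⟩ t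
      have h2 : chevE6.cartan 1 k = chevE6.cartan 1 s := by rw [← hcpr k hk, ← hcpr s hs, hV]
      have h3 := hconj k hk t
      rw [h2, he.neg_one_zpow, one_mul, mul_inv_eq_iff_eq_mul] at h3
      exact Subgroup.mem_centralizer_singleton_iff.2 h3.symm
    have h2 := Subgroup.mem_centralizer_singleton_iff.1 (h1 ha')
    apply Subtype.ext
    show psi0 (hp := hp) 1 φ (-1) * (a : GL chevE6.Idx K) * (psi0 (hp := hp) 1 φ (-1))⁻¹ = a
    rw [← h2, mul_inv_cancel_right]
  · intro y hy he a ha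
    obtain ⟨s, hs, rfl⟩ := (foldData.isRoot_iff (cs := cs) (h := isCartan) hp.checked
      (fun i r hr => wp_lt hp (J i) hr) y).1 hy
    rw [hcpr s hs] at he
    have ha' := (Subgroup.mem_subgroupOf.1 ha).1
    have hchk := LongSL.Tw.chk_E6
    rw [Bool.and_eq_true, Bool.and_eq_true] at hchk
    have hfib : ∀ k < chevE6.nroots, ∀ k' < chevE6.nroots, V chevE6 J k = V chevE6 J k' → k ≠ k' →
        k' ≠ chevE6.neg k ∧ chevE6.commTerms k k' = [] := by
      intro k hk k' hk' hV hkk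
      have h3 := List.all_eq_true.1 (List.all_eq_true.1 hchk.2 k (List.mem_range.2 hk)) k' (List.mem_range.2 hk')
      simp only [Bool.or_eq_true, beq_iff_eq, Bool.and_eq_true, List.isEmpty_iff, hkk, false_or, hV, decide_true,
        Bool.not_true, Bool.false_eq_true, bne_iff_ne] at h3
      exact ⟨h3.1.2, h3.2⟩
    apply Subtype.ext
    show psi0 (hp := hp) 1 φ (-1) * (a : GL chevE6.Idx K) * (psi0 (hp := hp) 1 φ (-1))⁻¹ = (a : GL chevE6.Idx K)⁻¹
    refine inverts_closure (S := {g | ∃ r ∈ {k | k < chevE6.nroots ∧ V chevE6 J k = V chevE6 J s}, ∃ t,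
      g = xG hp.inList r t}) ?_ ?_ _ ha'
    · rintro _ ⟨k, ⟨hk, hV⟩, t, rfl⟩
      have h2 : chevE6.cartan 1 k = chevE6.cartan 1 s := by rw [← hcpr k hk, ← hcpr s hs, hV]
      rw [hconj k hk t, h2, he.neg_one_zpow, neg_one_mul, xG_inv]
    · rintro _ ⟨k, ⟨hk, hV⟩, t, rfl⟩ _ ⟨k', ⟨hk', hV'⟩, t', rfl⟩
      by_cases hkk : k = k'
      · subst hkk
        rw [xG_add, xG_add, add_comm]
      · obtain ⟨h4, h5⟩ := hfib k hk k' hk' (hV.trans hV'.symm) hkk
        exact (LongSL.Chev.commute_xG hp K hk hk' (Ne.symm hkk) h4 h5 t t').symm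

/-- The long roots. -/
def R : Set (Fin 4 → ℤ) := {x | IsRoot cs isCartan x ∧ bf x x = 4}

set_option maxRecDepth 20000 in
theorem le_one_rts : ∀ x ∈ rts, ∀ y ∈ rts, bf y y = 4 → x ≠ y → x ≠ -y → |bf x y| ≤ 2 := by decide +kernel

theorem le_one {r x : Fin 4 → ℤ} (hr : r ∈ R cs) (hx : IsRoot cs isCartan x) (h1 : x ≠ r) (h2 : x ≠ -r) :
    |cpr cs isCartan x r| ≤ 1 := by
  have h3 := le_one_rts x ((mem_rts cs).1 hx) r ((mem_rts cs).1 hr.1) hr.2 h1 h2
  have h4 := cpr_long cs x hr.1 hr.2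
  rw [abs_le] at h3 ⊢
  omega

theorem act (r : Fin 4 → ℤ) (hr : r ∈ R cs) (w : W) : rep cs isCartan w r ∈ R cs :=
  ⟨hr.1.act w, by rw [bf_rep]; exact hr.2⟩

theorem center_eq (hq : IsPrimePow q) (hK : Fintype.card K = q ^ 2) :
    Subgroup.center ↥(twistedE6 K q) = ⊥ := by
  obtain ⟨h1, h2⟩ := Cfsg.Agent.S1070.result hq hK
  rcases (inferInstance : (Subgroup.center ↥(twistedE6 K q)).Normal).eq_bot_or_eq_top with h3 | h3
  · exact h3
  · exfalso
    apply h2
    exact ⟨⟨fun a b => by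
      have h4 : a ∈ Subgroup.center ↥(twistedE6 K q) := by rw [h3]; exact Subgroup.mem_top a
      exact (Subgroup.mem_center_iff.1 h4 b).symm⟩⟩

include hφ hqq in
/-- **Classical data of `²E₆(q)`, `q` odd.** -/
theorem clsE [Fintype W] (hq : IsPrimePow q) (hK : Fintype.card K = q ^ 2) :
    Cls cs isCartan p (T K q) (nn hφ) (X φ q) (R cs) (X φ q) (zv cs isCartan (T K q) (X φ q)) := by
  have Rg := Cfsg.Agent.Nodes.RGDTwE6.rgd cs hφ hqq p
  have hLR : ∀ r ∈ R cs, Cfsg.Agent.KFacts.RgdTI.LR (Cfsg.Agent.Nodes.RGDTwE6.rgd cs hφ hqq p) r := fun r hr =>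
    Cfsg.Agent.KFacts.TwESix.Grp.lr_long cs hφ hqq p hr.1 hr.2
  refine cls_of_inv Rg (fun t _ h1 => ?_) (fun r hr => hr.1) (act cs) (fun r hr y hy => le_one cs hr hy) ?_ ?_ ?_
  · rw [← Subgroup.mem_bot, ← center_eq hq hK, Subgroup.mem_center_iff]
    have h2 : Cfsg.Agent.Nodes.RGDLib.G1 cs isCartan (X φ q) ≤ Subgroup.centralizer {t} := by
      unfold Cfsg.Agent.Nodes.RGDLib.G1
      refine iSup_le ?_
      rintro ⟨y, hy⟩ a ha
      rw [Subgroup.mem_centralizer_singleton_iff]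
      have := h1 y hy a ha
      rw [mul_inv_eq_iff_eq_mul] at this
      exact this.symm
    rw [G1_eq_top cs hφ hqq] at h2
    intro g
    have h3 := h2 (Subgroup.mem_top g)
    rw [Subgroup.mem_centralizer_singleton_iff] at h3
    exact h3
  · intro r hr a ha b hb
    refine (hLR r hr).comm r hr.1 ?_ a ha b hb
    rw [cpr_self cs isCartan hr.1]
    norm_num
  · intro r hr y hy _ _ h0 a ha b hb
    refine (hLR r hr).comm y hy ?_ a ha b hb
    by_contra h3
    have h4 := two_form_cpr cs isCartan y hr.1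
    have h5 := form_pos cs isCartan hr.1.ne_zero
    push Not at h3
    nlinarith
  · intro i hi
    obtain ⟨w, hw⟩ := exists_rep_long cs hi.1 hi.2
    obtain ⟨g, hg⟩ := exists_rp cs Rg.nsys w
    have h1 := (inv_node cs hφ hqq p).act Rg (isRoot_sr cs isCartan 0) hg
    rw [hw] at h1
    exact ⟨_, h1⟩

include hφ hqq p in
/-- **The long root `SL(2, q)`.** -/
theorem sl (h2K : (2 : K) ≠ 0) {r : Fin 4 → ℤ} (hr : r ∈ R cs) :
    Nonempty (Matrix.SpecialLinearGroup (Fin 2) (FF φ) ≃* ↥(X φ q r ⊔ X φ q (-r))) := by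
  have : Finite W := finiteW cs
  have Rg := Cfsg.Agent.Nodes.RGDTwE6.rgd cs hφ hqq p
  obtain ⟨w, hw⟩ := exists_rep_long cs hr.1 hr.2
  obtain ⟨g, hg⟩ := exists_rp cs Rg.nsys w
  have e1 := MonoidHom.ofInjective (psi_injective hφ hqq p h2K)
  have h1 : cj g (X φ q (sr 0) ⊔ X φ q (-sr 0)) = X φ q r ⊔ X φ q (-r) := by
    rw [cj_sup, Rg.conj_rp hg (isRoot_sr cs isCartan 0), Rg.conj_rp hg (isRoot_sr cs isCartan 0).neg, map_neg, hw]
  have e2 : ↥(X φ q (sr 0) ⊔ X φ q (-sr 0)) ≃* ↥(X φ q r ⊔ X φ q (-r)) :=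
    ((X φ q (sr 0) ⊔ X φ q (-sr 0)).equivMapOfInjective _ (MulAut.conj g).injective).trans
      (MulEquiv.subgroupCongr h1)
  exact ⟨e1.trans ((MulEquiv.subgroupCongr (range_psi hφ hqq p)).trans e2)⟩

end

end Cfsg.Agent.OddHalf.NI3.K.TwESixCls

end

-- merged: Cfsg.Agent.OddHalf.NI3.K.TwESix
section

/-!
# `HasYF` for `²E6(3)` (NI over `F_3`, (F1_3); helper622)

`y = z a * z b`, `a = 0120`, `b = 0100` (the nodes `0, 1` are long, `2, 3` short), `M` the group of the roots `x` with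
`x 3` even, of type `B4`; base `0122, α_0, α_1, α_2`.
-/

set_option autoImplicit false
set_option linter.unusedSectionVars false
set_option linter.dupNamespace false

namespace Cfsg.Agent.OddHalf.NI3.K.TwESix

open CoxeterSystem Cfsg.Agent.ChevalleyStructure.CoxeterGeom Cfsg.Agent.Tits.Roots Cfsg.Agent.Tits.Core
  Cfsg.Agent.Tits.RootComb Cfsg.Agent.Nodes.Comb Cfsg.Agent.Nodes.Reps Cfsg.Agent.Nodes.BNOf
  Cfsg.Agent.Nodes.Coroot Cfsg.Agent.Nodes.Chart Cfsg.Agent.Nodes.SubComb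
  Cfsg.Agent.Nodes.RGDTwE6 Cfsg.Agent.KFacts.TwESix.Comb Cfsg.Agent.OddHalf.NI3.K.TwESixCls
open Cfsg.Agent.OddHalf.NI3.K.F4 (MB AB isCartanB irrB pB pB_nodup pB_nonneg)
open Cfsg.Lie

/-- The base. -/
def be : Fin 4 → Fin 4 → ℤ := ![![0, 1, 2, 2], ![1, 0, 0, 0], ![0, 1, 0, 0], ![0, 0, 1, 0]]

/-- The nodes. -/
def nd : Fin 4 → Fin 4 := ![1, 0, 1, 2]

theorem iota_be (c : Fin 4 → ℤ) : iota be c = ![c 1, c 0 + c 2, 2 * c 0 + c 3, 2 * c 0] := by
  funext k
  rw [iota_apply, Finset.sum_apply, Fin.sum_univ_four]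
  fin_cases k <;> simp [be] <;> ring

section

variable {W : Type*} [Group W] (cs : CoxeterSystem CoxeterMatrix.F₄ W)

/-- The Weyl group elements of the base. -/
def wd : Fin 4 → W := ![cs.simple 3 * cs.simple 2, 1, 1, 1]

/-- The reflection, computable. -/
def rx (i : Fin 4) (x : Fin 4 → ℤ) : Fin 4 → ℤ := x - pairing A i x • sr i

theorem rep_rx (i : Fin 4) (x : Fin 4 → ℤ) : rep cs isCartan (cs.simple i) x = rx i x :=
  rep_simple_eq cs isCartan i x

theorem rx_eq : rx 3 (rx 2 (sr 1)) = ![0, 1, 2, 2] := by decide +kernel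

theorem pair_zero : ∀ k, pairing A 1 (rx 2 (rx 3 (be k))) = AB 0 k := by decide +kernel

theorem pair_pos : ∀ j, j ≠ 0 → ∀ k, pairing A (nd j) (be k) = AB j k := by decide +kernel

theorem be_pos : ∀ j, j ≠ 0 → be j = sr (nd j) := by decide

theorem wd_pos : ∀ j : Fin 4, j ≠ 0 → wd cs j = 1 := by
  intro j hj
  fin_cases j
  · exact absurd rfl hj
  all_goals rfl

theorem subSys : SubSys cs isCartan AB be (wd cs) nd where
  eq j := by
    by_cases hj : j = 0
    · subst hj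
      show be 0 = rep cs isCartan (cs.simple 3 * cs.simple 2) (sr 1)
      rw [rep_mul_apply, rep_rx, rep_rx, rx_eq]
      rfl
    · rw [wd_pos cs j hj, map_one, Module.End.one_apply, be_pos j hj]
  cartan j k := by
    by_cases hj : j = 0
    · subst hj
      show pairing _ 1 (rep cs isCartan (cs.simple 3 * cs.simple 2)⁻¹ (be k)) = _
      rw [mul_inv_rev, cs.inv_simple, cs.inv_simple, rep_mul_apply, rep_rx, rep_rx]
      exact pair_zero k
    · rw [wd_pos cs j hj, inv_one, map_one, Module.End.one_apply]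
      exact pair_pos j hj k
  indep c hc := by
    rw [iota_be] at hc
    have h0 := congrFun hc 0
    have h1 := congrFun hc 1
    have h2 := congrFun hc 2
    have h3 := congrFun hc 3
    simp at h0 h1 h2 h3
    funext k
    fin_cases k <;> simp <;> omega

/-- The coordinates of an even root. -/
def co (x : Fin 4 → ℤ) : Fin 4 → ℤ := ![x 3 / 2, x 0, x 1 - x 3 / 2, x 2 - x 3]

theorem co_iota (c : Fin 4 → ℤ) : co (iota be c) = c := by
  rw [iota_be]
  funext k
  fin_cases k <;> simp [co]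

theorem iota_co {x : Fin 4 → ℤ} (hx : Even (x 3)) : iota be (co x) = x := by
  rw [iota_be]
  have h1 : 2 * (x 3 / 2) = x 3 := Int.two_mul_ediv_two_of_even hx
  funext k
  fin_cases k
  · rfl
  · show x 3 / 2 + (x 1 - x 3 / 2) = x 1
    omega
  · show 2 * (x 3 / 2) + (x 2 - x 3) = x 2
    omega
  · simpa [co] using h1

theorem base_tab : ∀ x ∈ rts, x 3 % 2 = 0 → (∀ k, 0 ≤ co x k) ∨ ∀ k, co x k ≤ 0 := by decide +kernel

theorem pB_tab : ∀ c ∈ pB, (![c 1, c 0 + c 2, 2 * c 0 + c 3, 2 * c 0] : Fin 4 → ℤ) ∈ rts := by decide +kernel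

theorem base : ∀ c, IsRoot cs isCartan (iota be c) → 0 ≤ c ∨ c ≤ 0 := by
  intro c hc
  have h2 := base_tab _ ((mem_rts cs).1 hc) (by rw [iota_be]; simp)
  rw [co_iota] at h2
  exact h2

theorem isRoot_co {x : Fin 4 → ℤ} (hx : IsRoot cs isCartan x) (he : Even (x 3)) :
    IsRoot MB.toCoxeterSystem isCartanB (co x) := by
  have := finiteW cs
  refine (subSys cs).isRoot_of_iota MB.toCoxeterSystem isCartanB (base cs) ?_
  rwa [iota_co he]

theorem root_a : IsRoot cs isCartan (![0, 1, 2, 0] : Fin 4 → ℤ) := (mem_rts cs).2 (by decide +kernel)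
theorem root_b : IsRoot cs isCartan (![0, 1, 0, 0] : Fin 4 → ℤ) := (mem_rts cs).2 (by decide +kernel)

theorem long_a : bf (![0, 1, 2, 0] : Fin 4 → ℤ) ![0, 1, 2, 0] = 4 := by decide +kernel
theorem long_b : bf (![0, 1, 0, 0] : Fin 4 → ℤ) ![0, 1, 0, 0] = 4 := by decide +kernel

theorem cpr_a (x : Fin 4 → ℤ) : cpr cs isCartan x ![0, 1, 2, 0] = x 2 - x 0 - x 3 := by
  have h := cpr_long cs x (root_a cs) long_a
  have e : bf x ![0, 1, 2, 0] = 2 * (x 2 - x 0 - x 3) := by
    simp [bf]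
    ring
  rw [e] at h
  omega

theorem cpr_b (x : Fin 4 → ℤ) : cpr cs isCartan x ![0, 1, 0, 0] = 2 * x 1 - x 0 - x 2 := by
  have h := cpr_long cs x (root_b cs) long_b
  have e : bf x ![0, 1, 0, 0] = 2 * (2 * x 1 - x 0 - x 2) := by
    simp [bf]
    ring
  rw [e] at h
  omega

theorem parity (x : Fin 4 → ℤ) :
    Even (cpr cs isCartan x ![0, 1, 2, 0] + cpr cs isCartan x ![0, 1, 0, 0]) ↔ Even (x 3) := by
  rw [cpr_a, cpr_b]
  have e : x 2 - x 0 - x 3 + (2 * x 1 - x 0 - x 2) = 2 * (x 1 - x 0) + -x 3 := by ring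
  rw [e, Int.even_add]
  simp

theorem image (x : Fin 4 → ℤ) (hx : IsRoot cs isCartan x) :
    Even (cpr cs isCartan x ![0, 1, 2, 0] + cpr cs isCartan x ![0, 1, 0, 0]) ↔
      ∃ c, IsRoot MB.toCoxeterSystem isCartanB c ∧ x = iota be c := by
  rw [parity cs]
  constructor
  · intro he
    exact ⟨co x, isRoot_co cs hx he, (iota_co he).symm⟩
  · rintro ⟨c, -, rfl⟩
    rw [iota_be]
    simp

end

/-- **`²E6(3)`**: `M` of type `B4`. -/
theorem hasYF_TwESix {K : Type} [Field K] [Fintype K] (hK : Fintype.card K = 3 ^ 2) :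
    HasYF ↥(twistedE6 K 3) := by
  classical
  have : Fact (Nat.Prime 3) := ⟨Nat.prime_three⟩
  have hq : IsPrimePow 3 := Nat.prime_three.isPrimePow
  have hchar : CharP K 3 := by
    obtain ⟨q, hq⟩ := CharP.exists K
    have hqp : q.Prime := (CharP.char_is_prime_or_zero K q).resolve_right (CharP.char_ne_zero_of_finite K q)
    obtain ⟨n, -, hn⟩ := FiniteField.card K q
    rw [hK] at hn
    have h1 : q ∣ 3 ^ 2 := by rw [hn]; exact dvd_pow_self q n.2.ne'
    rw [(Nat.prime_dvd_prime_iff_eq hqp Nat.prime_three).1 (hqp.dvd_of_dvd_pow h1)] at hq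
    exact hq
  have h2K : (2 : K) ≠ 0 := by
    intro h0
    have h1 : ((2 : ℕ) : K) = 0 := by exact_mod_cast h0
    rw [CharP.cast_eq_zero_iff K 3] at h1
    omega
  obtain ⟨φ, hφ, hqq⟩ := Cfsg.Agent.ChevalleyStructure.TwE6Basic.exists_frob hq hK
  have hfin0 : Finite CoxeterMatrix.F₄.Group := finiteW CoxeterMatrix.F₄.toCoxeterSystem
  let _ : Fintype CoxeterMatrix.F₄.Group := Fintype.ofFinite _
  have hfin' : Finite MB.Group := (subSys CoxeterMatrix.F₄.toCoxeterSystem).finite MB.toCoxeterSystem isCartanB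
  let _ : Fintype MB.Group := Fintype.ofFinite _
  let _ : Fintype (LongSL.Fold.FF φ) := Fintype.ofFinite _
  have hc : Fintype.card (LongSL.Fold.FF φ) = 3 := LongSL.Tw.card_FF (by norm_num) hK hφ
  have C := clsE CoxeterMatrix.F₄.toCoxeterSystem hφ hqq 3 hq hK
  have hR : ∀ j : Fin 4, j ≠ 3 → be j ∈ R CoxeterMatrix.F₄.toCoxeterSystem := by
    intro j hj
    refine ⟨(subSys _).isRoot_beta j, ?_⟩
    revert j
    decide +kernel
  have hR3 : be 3 ∉ R CoxeterMatrix.F₄.toCoxeterSystem := by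
    rintro ⟨-, h1⟩
    revert h1
    decide +kernel
  have hcount : 14 ≤ {c | IsRoot MB.toCoxeterSystem isCartanB c ∧ 0 ≤ c}.ncard :=
    F4.count CoxeterMatrix.F₄.toCoxeterSystem Nodes.KindF.isType.isCartan
  refine BFour.hasYF_of_sub C (G1_eq_top _ hφ hqq) Cfsg.Agent.KFacts.TwESix.Tor.T_comm (fun _ _ => rfl)
    (fun r hr y hy h1 h2 => le_one _ hr hy h1 h2) hc (fun s hs => sl _ hφ hqq 3 h2K hs)
    (a := ![0, 1, 2, 0]) (b := ![0, 1, 0, 0]) ⟨root_a _, long_a⟩ ⟨root_b _, long_b⟩ (subSys _)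
    (image CoxeterMatrix.F₄.toCoxeterSystem) ⟨sr 3, isRoot_sr _ _ 3, ?_⟩ ?_ ?_
    (Cfsg.Agent.Nodes.ChevChart.irr_of irrB) ?_ 1 ?_ hcount
  · rw [parity, sr_self]
    decide
  · rw [cpr_b]
    decide
  · rw [cpr_a]
    decide
  · intro k
    fin_cases k
    · exact ⟨1, by decide, by decide, hR 1 (by decide)⟩
    · exact ⟨0, by decide, by decide, hR 0 (by decide)⟩
    · exact ⟨1, by decide, by decide, hR 1 (by decide)⟩
    · exact ⟨2, by decide, by decide, hR 2 (by decide)⟩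
  · intro k hk
    fin_cases k
    · exact ⟨_, (BFour.rep_link (cs := MB.toCoxeterSystem) (h := isCartanB) (a := 1) (b := 0) rfl rfl).symm⟩
    · exact ⟨1, by rw [map_one, Module.End.one_apply]; rfl⟩
    · exact ⟨_, (BFour.rep_link (cs := MB.toCoxeterSystem) (h := isCartanB) (a := 1) (b := 2) rfl rfl).symm⟩
    · exact absurd hk hR3

/-- **Row `²E6(3)`.** -/
theorem row_TwESix {X : Type*} [Group X] (h : LieOddFam.F2E6 X 3) : HasYF X := by
  obtain ⟨F, _, _, hF, ⟨e⟩⟩ := h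
  exact Congr.hasYF_congr e.symm (hasYF_TwESix hF)

end Cfsg.Agent.OddHalf.NI3.K.TwESix

end

-- merged: Cfsg.Agent.OddHalf.NI3.K.FThirteenAll
section

/-!
# (F1_3) unconditional (NI over `F_3`)

`f13 : F13`: every simple group of Lie type over the field with three elements which is not one of the nine small groups
has `HasYF`.
-/

set_option autoImplicit false

namespace Cfsg.Agent.OddHalf.NI3.K

open Subgroup Cfsg Cfsg.Agent.OddHalf.LieOddFam

universe u

/-- **(F1_3)** -/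
theorem f13 : F13.{u} := by
  intro K _ _ hs hK hS
  simp only [Small3, not_or] at hS
  obtain ⟨s1, s2, s3, s4, s5, s6, s7, s8, s9⟩ := hS
  rcases hK with h | h | h | h | h | h | h | h | h | h | h | h | h
  · exact SL.row_sl h s1 s3
  · exact Sp.row_sp h s5
  · exact SU.row_su h s2 s4
  · exact OrthY.row_odd h s7
  · exact OrthY.row_plus h s8
  · exact OrthY.row_minus h s9
  · exact absurd h s6
  · exact F4.row_F4 h
  · exact En.row_E6 h
  · exact En.row_E7 h
  · exact En.row_E8 h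
  · exact TwESix.row_TwESix h
  · exact TwD4.hasYF hs h

end Cfsg.Agent.OddHalf.NI3.K

end
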